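import Mathlib
import Cfsg.Prelude.Def_Local

/-! Subgroups and Hall `p'`-subgroups of `p`-solvable groups. -/

set_option autoImplicit false

namespace Cfsg.Agent.Lib.GenStruct.PHall

open Subgroup

variable {G : Type*} [Group G] [Finite G] {p : ℕ} [hp : Fact p.Prime]

theorem isPSolvable_subgroup (h : Cfsg.IsPSolvable p G) (B : Subgroup G) : Cfsg.IsPSolvable p B := by
  obtain ⟨n, H, h0, hlast, hmono, hn, hstep⟩ := h
  refine ⟨n, fun i => (H i).subgroupOf B, by simp [h0], by simp [hlast],
    fun i j hij => subgroupOf_mono B (hmono hij), fun i => by haveI := hn i; infer_instance, fun i => ?_⟩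
  haveI := hn i.castSucc
  have hle : H i.castSucc ≤ H i.succ := hmono (Fin.castSucc_le_succ i)
  have hd : ((H i.castSucc).subgroupOf B).relIndex ((H i.succ).subgroupOf B) ∣
      (H i.castSucc).relIndex (H i.succ) := by
    rw [← inf_subgroupOf_right (H i.succ) B, relIndex_subgroupOf inf_le_right,
      ← relIndex_sup_right (H := H i.succ ⊓ B) (K := H i.castSucc)]
    exact ⟨_, (relIndex_mul_relIndex _ _ _ le_sup_right (sup_le inf_le_left hle)).symm⟩
  rcases hstep i with ⟨m, hm⟩ | hc
  · left
    obtain ⟨t, -, ht⟩ := (Nat.dvd_prime_pow hp.out).1 (hm ▸ hd)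
    exact ⟨t, ht⟩
  · exact Or.inr (hc.coprime_dvd_left hd)

/-- A `p`-solvable group has a subgroup of order prime to `p` and `p`-power index. -/
theorem exists_pPrime_hall (h : Cfsg.IsPSolvable p G) :
    ∃ K : Subgroup G, (Nat.card K).Coprime p ∧ ∃ m : ℕ, K.index = p ^ m := by
  obtain ⟨n, H, h0, hlast, hmono, hn, hstep⟩ := h
  suffices key : ∀ d : ℕ, ∀ i : Fin (n + 1), n ≤ (i : ℕ) + d →
      ∃ X : Subgroup G, H i ≤ X ∧ ((H i).relIndex X).Coprime p ∧ ∃ m : ℕ, X.index = p ^ m by
    obtain ⟨X, -, hc, hm⟩ := key n 0 (by simp)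
    rw [h0, relIndex_bot_left] at hc
    exact ⟨X, hc, hm⟩
  intro d
  induction d with
  | zero =>
    intro i hi
    have : i = Fin.last n := by
      apply Fin.ext
      have := i.is_lt
      simp only [Fin.val_last]
      omega
    subst this
    exact ⟨⊤, le_top, by simp [hlast], 0, by simp⟩
  | succ d ih =>
    intro i hi
    by_cases hin : n ≤ (i : ℕ) + d
    · exact ih i hin
    set j : Fin n := ⟨i, by omega⟩ with hj
    have hij : i = j.castSucc := by apply Fin.ext; simp [hj]
    obtain ⟨X, hX, hc, m, hm⟩ := ih j.succ (by simp [hj]; omega)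
    have hle : H i ≤ H j.succ := hij ▸ hmono (Fin.castSucc_le_succ j)
    have hstep' := hstep j
    rw [← hij] at hstep'
    rcases hstep' with ⟨k, hk⟩ | hco
    swap
    · refine ⟨X, hle.trans hX, ?_, m, hm⟩
      rw [← relIndex_mul_relIndex _ _ _ hle hX]
      exact Nat.Coprime.mul_left hco hc
    haveI := hn i
    haveI := hn j.succ
    set A := (H i).subgroupOf X with hA
    set N := ((H j.succ).subgroupOf X).map (QuotientGroup.mk' A) with hN
    haveI : N.Normal := Subgroup.Normal.map inferInstance _ (QuotientGroup.mk'_surjective A)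
    have hAM : A ≤ (H j.succ).subgroupOf X := subgroupOf_mono X hle
    have hNidx : N.index = (H j.succ).relIndex X := by
      rw [hN, index_map_eq _ (QuotientGroup.mk'_surjective A) (by rw [QuotientGroup.ker_mk']; exact hAM)]
      rfl
    have hNcard : Nat.card N = p ^ k := by
      rw [← hk]
      have h1 := card_mul_index N
      rw [hNidx, ← Subgroup.index_eq_card, show A.index = (H i).relIndex X from rfl] at h1
      have h2 : (H i).relIndex (H j.succ) * (H j.succ).relIndex X = (H i).relIndex X :=
        relIndex_mul_relIndex _ _ _ hle hX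
      have h3 : 0 < (H j.succ).relIndex X :=
        Nat.pos_of_ne_zero fun h => hp.out.ne_one (by simpa [h] using hc)
      exact Nat.eq_of_mul_eq_mul_right h3 (h1.trans h2.symm)
    obtain ⟨Y, hY⟩ := exists_left_complement'_of_coprime (N := N)
      (by rw [hNcard, hNidx]; exact Nat.Coprime.pow_left k hc.symm)
    have hYcard : Nat.card Y = (H j.succ).relIndex X := by rw [← hNidx, hY.index_eq_card]
    have hYidx : Y.index = p ^ k := by rw [hY.symm.index_eq_card, hNcard]
    set Z := (Y.comap (QuotientGroup.mk' A)).map X.subtype with hZ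
    refine ⟨Z, ?_, ?_, ?_⟩
    · intro x hx
      refine ⟨⟨x, hX (hle hx)⟩, ?_, rfl⟩
      show QuotientGroup.mk' A _ ∈ Y
      rw [show QuotientGroup.mk' A ⟨x, hX (hle hx)⟩ = 1 from (QuotientGroup.eq_one_iff _).2 hx]
      exact one_mem _
    · have hidx : ((H i).relIndex Z) = Nat.card Y := by
        rw [hZ, ← relIndex_comap]
        show A.relIndex (Y.comap (QuotientGroup.mk' A)) = _
        have h4 : ((⊥ : Subgroup (X ⧸ A)).comap (QuotientGroup.mk' A)) = A := by
          rw [MonoidHom.comap_bot, QuotientGroup.ker_mk']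
        refine (congrArg (fun S : Subgroup X => S.relIndex (Y.comap (QuotientGroup.mk' A))) h4.symm).trans ?_
        rw [relIndex_comap, map_comap_eq_self_of_surjective (QuotientGroup.mk'_surjective A), relIndex_bot_left]
      rw [hidx, hYcard]; exact hc
    · refine ⟨k + m, ?_⟩
      rw [hZ, index_map_of_injective (Y.comap (QuotientGroup.mk' A)) X.subtype_injective,
        index_comap_of_surjective _ (QuotientGroup.mk'_surjective A), hYidx, range_subtype, hm, pow_add]

end Cfsg.Agent.Lib.GenStruct.PHall
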