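import Mathlib

/-! Small general lemmas for the rows 4079-4251. -/

namespace Cfsg.Agent.Lib.GenStruct

variable {G : Type*} [Group G] [Finite G] {p : ℕ} [Fact p.Prime]

/-- A nontrivial normal subgroup of a finite p-group meets the centre nontrivially. -/
theorem exists_mem_center (hG : IsPGroup p G) (N : Subgroup G) [N.Normal] (hN : N ≠ ⊥) :
    ∃ z ∈ N, z ∈ Subgroup.center G ∧ z ≠ 1 := by
  have : Nontrivial N := (Subgroup.nontrivial_iff_ne_bot _).2 hN
  obtain ⟨n, hn0, hn⟩ := (IsPGroup.nontrivial_iff_card (hG.to_subgroup N)).1 this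
  have h1 : (1 : N) ∈ MulAction.fixedPoints (ConjAct G) N := fun g => smul_one g
  obtain ⟨z, hz, hz1⟩ :=
    (hG.of_equiv ConjAct.toConjAct).exists_fixed_point_of_prime_dvd_card_of_fixed_point N
      (hn ▸ dvd_pow_self p hn0.ne') h1
  refine ⟨z, z.2, ?_, fun h => hz1 (Subtype.ext h.symm)⟩
  rw [Subgroup.mem_center_iff]
  intro g
  have := congrArg Subtype.val (hz (ConjAct.toConjAct g))
  rw [ConjAct.Subgroup.val_conj_smul, ConjAct.smul_def, ConjAct.ofConjAct_toConjAct] at this
  exact mul_inv_eq_iff_eq_mul.1 this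

end Cfsg.Agent.Lib.GenStruct
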