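import Mathlib
import Cfsg.Prelude.Def_PLocal
import Cfsg.Agent.Lib.PGroupFrattini
import Cfsg.Agent.Lib.GenStruct.CubeGroup

/-! Elementary theory of regular `p`-groups. -/

set_option autoImplicit false

namespace Cfsg.Agent.Lib.GenStruct.Regular

open scoped commutatorElement
open Cfsg

universe u

variable {G : Type*} [Group G] {p : ℕ}

/-- Regularity for the single exponent `p ^ n`. -/
def RegAt (p n : ℕ) (G : Type*) [Group G] : Prop :=
  ∀ a b : G, ∃ c ∈ powerClosure p n ⁅Subgroup.closure ({a, b} : Set G), Subgroup.closure ({a, b} : Set G)⁆,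
    (a * b) ^ (p ^ n) = a ^ (p ^ n) * b ^ (p ^ n) * c

theorem map_powerClosure {H : Type*} [Group H] (f : G →* H) (n : ℕ) (K : Subgroup G) :
    (powerClosure p n K).map f = powerClosure p n (K.map f) := by
  rw [powerClosure, powerClosure, MonoidHom.map_closure]
  congr 1
  ext y
  constructor
  · rintro ⟨_, ⟨x, hx, rfl⟩, rfl⟩; exact ⟨f x, ⟨x, hx, rfl⟩, map_pow f x _⟩
  · rintro ⟨_, ⟨x, hx, rfl⟩, rfl⟩; exact ⟨x ^ p ^ n, ⟨x, hx, rfl⟩, map_pow f x _⟩

theorem powerClosure_mono (n : ℕ) {H K : Subgroup G} (h : H ≤ K) :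
    powerClosure p n H ≤ powerClosure p n K := by
  unfold powerClosure
  refine Subgroup.closure_mono ?_
  rintro _ ⟨x, hx, rfl⟩
  exact ⟨x, h hx, rfl⟩

theorem powerClosure_le (n : ℕ) (H : Subgroup G) : powerClosure p n H ≤ H := by
  rw [powerClosure, Subgroup.closure_le]
  rintro _ ⟨x, hx, rfl⟩
  exact pow_mem hx _

theorem RegAt.subgroup {n : ℕ} (h : RegAt p n G) (H : Subgroup G) : RegAt p n H := by
  intro a b
  obtain ⟨c, hc, he⟩ := h (a : G) (b : G)
  have e : powerClosure p n ⁅Subgroup.closure ({(a : G), (b : G)} : Set G), Subgroup.closure ({(a : G), (b : G)} : Set G)⁆ =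
      (powerClosure p n ⁅Subgroup.closure ({a, b} : Set H), Subgroup.closure ({a, b} : Set H)⁆).map H.subtype := by
    rw [map_powerClosure, Subgroup.map_commutator, MonoidHom.map_closure, Set.image_pair]
    rfl
  rw [e] at hc
  obtain ⟨c', hc', rfl⟩ := hc
  exact ⟨c', hc', Subtype.ext (by simpa using he)⟩

theorem commutator_closure_pair_le {S : Subgroup G} [S.Normal] {x y : G}
    (h : x⁻¹ * y⁻¹ * x * y ∈ S) :
    ⁅Subgroup.closure ({x, y} : Set G), Subgroup.closure ({x, y} : Set G)⁆ ≤ S := by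
  have h2 : QuotientGroup.mk' S x * QuotientGroup.mk' S y = QuotientGroup.mk' S y * QuotientGroup.mk' S x := by
    have h1 : QuotientGroup.mk' S (x⁻¹ * y⁻¹ * x * y) = 1 := (QuotientGroup.eq_one_iff _).2 h
    simp only [map_mul, map_inv] at h1
    calc QuotientGroup.mk' S x * QuotientGroup.mk' S y
        = QuotientGroup.mk' S y * QuotientGroup.mk' S x *
          ((QuotientGroup.mk' S x)⁻¹ * (QuotientGroup.mk' S y)⁻¹ * QuotientGroup.mk' S x * QuotientGroup.mk' S y) := by group
      _ = _ := by rw [h1, mul_one]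
  rw [← QuotientGroup.ker_mk' S, ← Subgroup.map_eq_bot_iff, Subgroup.map_commutator,
    Subgroup.commutator_eq_bot_iff_le_centralizer, MonoidHom.map_closure, Set.image_pair,
    Subgroup.closure_le, Subgroup.centralizer_closure]
  rintro z (rfl | rfl) <;> rw [SetLike.mem_coe, Subgroup.mem_centralizer_iff] <;>
    rintro w (rfl | rfl)
  · rfl
  · exact h2.symm
  · exact h2
  · rfl

theorem eq_top_of_sup_commutator [Finite G] [Fact p.Prime] (hG : IsPGroup p G) {K : Subgroup G}
    (h : K ⊔ commutator G = ⊤) : K = ⊤ :=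
  frattini_nongenerating (top_le_iff.1 (h.symm.le.trans
    (sup_le_sup le_rfl (PGroupFrattini.commutator_le_frattini hG))))

theorem commutator_lt_top [Finite G] [Fact p.Prime] (hG : IsPGroup p G) [Nontrivial G] :
    commutator G < ⊤ := by
  refine lt_top_iff_ne_top.2 fun h => ?_
  have := eq_top_of_sup_commutator hG (K := ⊥) (by rw [h, bot_sup_eq])
  exact bot_ne_top this

theorem card_lt_of_ne_top [Finite G] {K : Subgroup G} (h : K ≠ ⊤) : Nat.card K < Nat.card G :=
  lt_of_le_of_ne (Subgroup.card_le_card_group K) fun e => h (Subgroup.eq_top_of_card_eq K e)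

/-- In a regular `p`-group the elements killed by `p ^ n` are closed under products. -/
theorem omega_mul : ∀ (m : ℕ) (G : Type u) [Group G] [Finite G], Nat.card G = m →
    ∀ {p : ℕ} [Fact p.Prime] {n : ℕ}, IsPGroup p G → RegAt p n G →
      ∀ x y : G, x ^ p ^ n = 1 → y ^ p ^ n = 1 → (x * y) ^ p ^ n = 1 := by
  intro m
  induction m using Nat.strong_induction_on with
  | _ m ih =>
  intro G _ _ hm p _ n hG hR x y hx hy
  have sub : ∀ M : Subgroup G, M ≠ ⊤ → ∀ a ∈ M, ∀ b ∈ M, a ^ p ^ n = 1 → b ^ p ^ n = 1 →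
      (a * b) ^ p ^ n = 1 := by
    intro M hM a ha b hb h1 h2
    have := ih (Nat.card M) (hm ▸ card_lt_of_ne_top hM) M rfl (hG.to_subgroup M) (hR.subgroup M)
      ⟨a, ha⟩ ⟨b, hb⟩ (Subtype.ext h1) (Subtype.ext h2)
    exact congrArg Subtype.val this
  by_cases htop : Subgroup.closure ({x, y} : Set G) = ⊤
  swap
  · exact sub _ htop x (Subgroup.subset_closure (by simp)) y (Subgroup.subset_closure (by simp)) hx hy
  by_cases hxy : x * y = y * x
  · rw [(show Commute x y from hxy).mul_pow, hx, hy, one_mul]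
  set M := Subgroup.zpowers x ⊔ commutator G with hM
  have hMne : M ≠ ⊤ := fun h => hxy (by
    obtain ⟨k, hk⟩ := Subgroup.mem_zpowers_iff.1 (show y ∈ Subgroup.zpowers x by
      rw [eq_top_of_sup_commutator hG h]; trivial)
    rw [← hk]; exact ((Commute.refl x).zpow_right k).eq)
  have hDne : commutator G ≠ ⊤ := fun h => hMne (top_le_iff.1 (h.symm.le.trans le_sup_right))
  set c := x⁻¹ * y⁻¹ * x * y with hc
  have hcD : c ∈ commutator G := by
    have := Subgroup.commutator_mem_commutator (Subgroup.mem_top x⁻¹) (Subgroup.mem_top y⁻¹)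
    rw [commutatorElement_def, inv_inv, inv_inv] at this
    exact this
  have hc1 : c ^ p ^ n = 1 := by
    have hconj : (y⁻¹ * x * y) ^ p ^ n = 1 := by
      rw [show y⁻¹ * x * y = MulAut.conj y⁻¹ x by simp, ← map_pow, hx, map_one]
    have := sub M hMne x⁻¹ (Subgroup.mem_sup_left (inv_mem (Subgroup.mem_zpowers x))) (y⁻¹ * x * y)
      (by
        have : y⁻¹ * x * y = x * c := by rw [hc]; group
        rw [this]
        exact mul_mem (Subgroup.mem_sup_left (Subgroup.mem_zpowers x)) (Subgroup.mem_sup_right hcD))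
      (by rw [inv_pow, hx, inv_one]) hconj
    convert this using 1
    rw [hc]; simp [mul_assoc]
  let S : Subgroup G :=
    { carrier := {z | z ∈ commutator G ∧ z ^ p ^ n = 1}
      one_mem' := ⟨one_mem _, one_pow _⟩
      mul_mem' := fun {a b} ha hb => ⟨mul_mem ha.1 hb.1, sub _ hDne a ha.1 b hb.1 ha.2 hb.2⟩
      inv_mem' := fun {a} ha => ⟨inv_mem ha.1, by rw [inv_pow, ha.2, inv_one]⟩ }
  haveI : S.Normal := ⟨fun a ha g => ⟨(inferInstance : (commutator G).Normal).conj_mem a ha.1 g, by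
    rw [← MulAut.conj_apply, ← map_pow, ha.2, map_one]⟩⟩
  have hD : ∀ d ∈ ⁅Subgroup.closure ({x, y} : Set G), Subgroup.closure ({x, y} : Set G)⁆, d ^ p ^ n = 1 :=
    fun d hd => ((commutator_closure_pair_le (S := S) (x := x) (y := y) ⟨hcD, hc1⟩) hd).2
  obtain ⟨d, hd, he⟩ := hR x y
  have hd1 : d = 1 := by
    unfold powerClosure at hd
    clear he
    induction hd using Subgroup.closure_induction with
    | mem z hz => obtain ⟨w, hw, rfl⟩ := hz; exact hD w hw
    | one => rfl
    | mul a b _ _ ha hb => rw [ha, hb, one_mul]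
    | inv a _ ha => rw [ha, inv_one]
  rw [he, hx, hy, hd1, one_mul, one_mul]

/-- The subgroup of elements killed by `p ^ n`. -/
def omega [Finite G] [Fact p.Prime] {n : ℕ} (hG : IsPGroup p G) (hR : RegAt p n G) : Subgroup G where
  carrier := {x | x ^ p ^ n = 1}
  one_mem' := one_pow _
  mul_mem' := fun {a b} ha hb => omega_mul _ G rfl hG hR a b ha hb
  inv_mem' := fun {a} ha => by simp only [Set.mem_setOf_eq] at ha ⊢; rw [inv_pow, ha, inv_one]

theorem omega_characteristic [Finite G] [Fact p.Prime] {n : ℕ} (hG : IsPGroup p G) (hR : RegAt p n G) :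
    (omega hG hR).Characteristic := by
  rw [Subgroup.characteristic_iff_le_comap]
  intro φ x hx
  show φ x ^ p ^ n = 1
  rw [← map_pow, show x ^ p ^ n = 1 from hx, map_one]

/-- If the commutator of `a`, `b` is killed by `p^n`, then `(ab)^(p^n) = a^(p^n) b^(p^n)`. -/
theorem mul_pow_of_commutator [Finite G] [Fact p.Prime] {n : ℕ} (hG : IsPGroup p G) (hR : RegAt p n G)
    {a b : G} (h : (a⁻¹ * b⁻¹ * a * b) ^ p ^ n = 1) :
    (a * b) ^ p ^ n = a ^ p ^ n * b ^ p ^ n := by
  haveI := omega_characteristic hG hR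
  obtain ⟨c, hc, he⟩ := hR a b
  have : c = 1 := by
    unfold powerClosure at hc
    clear he
    induction hc using Subgroup.closure_induction with
    | mem z hz =>
      obtain ⟨w, hw, rfl⟩ := hz
      exact (commutator_closure_pair_le (S := omega hG hR) h) hw
    | one => rfl
    | mul a b _ _ ha hb => rw [ha, hb, one_mul]
    | inv a _ ha => rw [ha, inv_one]
  rw [he, this, mul_one]

theorem pow_eq_of_mul_inv_pow_eq_one [Finite G] [Fact p.Prime] {n : ℕ} (hG : IsPGroup p G)
    (hR : RegAt p n G) {a b : G} (h : (a * b⁻¹) ^ p ^ n = 1) : a ^ p ^ n = b ^ p ^ n := by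
  set z := a * b⁻¹ with hz
  have ha : a = z * b := by rw [hz]; simp
  have hcz : (z⁻¹ * b⁻¹ * z * b) ^ p ^ n = 1 := by
    have h1 : z⁻¹ ∈ omega hG hR := inv_mem (show z ∈ omega hG hR from h)
    haveI := omega_characteristic hG hR
    have h2 := mul_mem h1 ((inferInstance : (omega hG hR).Normal).conj_mem z h b⁻¹)
    have h3 : z⁻¹ * b⁻¹ * z * b = z⁻¹ * (b⁻¹ * z * b⁻¹⁻¹) := by group
    rw [h3]; exact h2
  rw [ha, mul_pow_of_commutator hG hR hcz, h, one_mul]

theorem mul_inv_pow_eq_one_of_pow_eq : ∀ (m : ℕ) (G : Type u) [Group G] [Finite G], Nat.card G = m →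
    ∀ {p : ℕ} [Fact p.Prime] {n : ℕ}, IsPGroup p G → RegAt p n G →
      ∀ a b : G, a ^ p ^ n = b ^ p ^ n → (a * b⁻¹) ^ p ^ n = 1 := by
  intro m
  induction m using Nat.strong_induction_on with
  | _ m ih =>
  intro G _ _ hm p _ n hG hR a b hab
  have sub : ∀ M : Subgroup G, M ≠ ⊤ → ∀ a ∈ M, ∀ b ∈ M, a ^ p ^ n = b ^ p ^ n →
      (a * b⁻¹) ^ p ^ n = 1 := by
    intro M hM a ha b hb h1
    have := ih (Nat.card M) (hm ▸ card_lt_of_ne_top hM) M rfl (hG.to_subgroup M) (hR.subgroup M)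
      ⟨a, ha⟩ ⟨b, hb⟩ (Subtype.ext h1)
    exact congrArg Subtype.val this
  by_cases htop : Subgroup.closure ({a, b} : Set G) = ⊤
  swap
  · exact sub _ htop a (Subgroup.subset_closure (by simp)) b (Subgroup.subset_closure (by simp)) hab
  by_cases hc : a * b = b * a
  · rw [(show Commute a b from hc).inv_right.mul_pow, inv_pow, hab, mul_inv_cancel]
  set M := Subgroup.zpowers a ⊔ commutator G with hM
  have hMne : M ≠ ⊤ := fun h => hc (by
    obtain ⟨k, hk⟩ := Subgroup.mem_zpowers_iff.1 (show b ∈ Subgroup.zpowers a by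
      rw [eq_top_of_sup_commutator hG h]; trivial)
    rw [← hk]; exact ((Commute.refl a).zpow_right k).eq)
  have hd : (b * a * b⁻¹) ^ p ^ n = a ^ p ^ n := by
    rw [← MulAut.conj_apply, ← map_pow, MulAut.conj_apply, hab, ← pow_succ', pow_succ, mul_inv_cancel_right]
  have h1 := sub M hMne _ (by
      have : b * a * b⁻¹ = ⁅b, a⁆ * a := by rw [commutatorElement_def]; group
      rw [this]
      exact mul_mem (Subgroup.mem_sup_right (Subgroup.commutator_mem_commutator trivial trivial))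
        (Subgroup.mem_sup_left (Subgroup.mem_zpowers a)))
    a (Subgroup.mem_sup_left (Subgroup.mem_zpowers a)) hd
  have h2 : (a⁻¹ * b⁻¹⁻¹ * a * b⁻¹) ^ p ^ n = 1 := by
    have : a⁻¹ * b⁻¹⁻¹ * a * b⁻¹ = MulAut.conj a⁻¹ (b * a * b⁻¹ * a⁻¹) := by simp [mul_assoc]
    rw [this, ← map_pow, h1, map_one]
  rw [mul_pow_of_commutator hG hR h2, inv_pow, hab, mul_inv_cancel]

/-- Products of `p ^ n`-th powers are powers. -/
theorem pow_mul_pow : ∀ (m : ℕ) (G : Type u) [Group G] [Finite G], Nat.card G = m →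
    ∀ {p : ℕ} [Fact p.Prime] {n : ℕ}, IsPGroup p G → RegAt p n G →
      ∀ x y : G, ∃ z : G, z ^ p ^ n = x ^ p ^ n * y ^ p ^ n := by
  intro m
  induction m using Nat.strong_induction_on with
  | _ m ih =>
  intro G _ _ hm p _ n hG hR x y
  have sub : ∀ M : Subgroup G, M ≠ ⊤ → ∀ a ∈ M, ∀ b ∈ M, ∃ z ∈ M,
      z ^ p ^ n = a ^ p ^ n * b ^ p ^ n := by
    intro M hM a ha b hb
    obtain ⟨z, hz⟩ := ih (Nat.card M) (hm ▸ card_lt_of_ne_top hM) M rfl (hG.to_subgroup M) (hR.subgroup M)
      ⟨a, ha⟩ ⟨b, hb⟩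
    exact ⟨z, z.2, congrArg Subtype.val hz⟩
  by_cases hxy : x * y = y * x
  · exact ⟨x * y, (show Commute x y from hxy).mul_pow _⟩
  haveI : Nontrivial G := ⟨x * y, y * x, hxy⟩
  by_cases htop : Subgroup.closure ({x, y} : Set G) = ⊤
  swap
  · obtain ⟨z, -, hz⟩ := sub _ htop x (Subgroup.subset_closure (by simp)) y (Subgroup.subset_closure (by simp))
    exact ⟨z, hz⟩
  obtain ⟨c, hc, he⟩ := hR x y
  have hcd : ∃ d ∈ commutator G, c = d ^ p ^ n := by
    unfold powerClosure at hc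
    clear he
    induction hc using Subgroup.closure_induction with
    | mem z hz => obtain ⟨w, hw, rfl⟩ := hz; exact ⟨w, Subgroup.commutator_mono le_top le_top hw, rfl⟩
    | one => exact ⟨1, one_mem _, (one_pow _).symm⟩
    | mul a b _ _ ha hb =>
      obtain ⟨u, hu, rfl⟩ := ha
      obtain ⟨v, hv, rfl⟩ := hb
      obtain ⟨w, hw, hwz⟩ := sub _ (commutator_lt_top hG).ne u hu v hv
      exact ⟨w, hw, hwz.symm⟩
    | inv a _ ha =>
      obtain ⟨u, hu, rfl⟩ := ha
      exact ⟨u⁻¹, inv_mem hu, (inv_pow _ _).symm⟩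
  obtain ⟨d, hd, rfl⟩ := hcd
  set M := Subgroup.zpowers (x * y) ⊔ commutator G with hM
  have hMne : M ≠ ⊤ := fun h => hxy (by
    obtain ⟨k, hk⟩ := Subgroup.mem_zpowers_iff.1 (show x ∈ Subgroup.zpowers (x * y) by
      rw [eq_top_of_sup_commutator hG h]; trivial)
    have h1 : x * (x * y) = (x * y) * x := by
      conv_lhs => arg 1; rw [← hk]
      conv_rhs => arg 2; rw [← hk]
      exact ((Commute.refl (x * y)).zpow_left k).eq
    rw [mul_assoc x y x] at h1
    exact mul_left_cancel h1)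
  obtain ⟨z, -, hz⟩ := sub M hMne (x * y) (Subgroup.mem_sup_left (Subgroup.mem_zpowers _)) d⁻¹
    (Subgroup.mem_sup_right (inv_mem hd))
  exact ⟨z, by rw [hz, he, inv_pow, mul_inv_cancel_right]⟩

theorem powerClosure_eq [Finite G] [Fact p.Prime] {n : ℕ} (hG : IsPGroup p G) (hR : RegAt p n G)
    (H : Subgroup G) : {y : G | ∃ x ∈ H, y = x ^ (p ^ n)} = (powerClosure p n H : Set G) := by
  refine Set.Subset.antisymm Subgroup.subset_closure ?_
  intro c hc
  simp only [SetLike.mem_coe, powerClosure] at hc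
  induction hc using Subgroup.closure_induction with
  | mem z hz => exact hz
  | one => exact ⟨1, one_mem _, (one_pow _).symm⟩
  | mul a b _ _ ha hb =>
    obtain ⟨u, hu, rfl⟩ := ha
    obtain ⟨v, hv, rfl⟩ := hb
    obtain ⟨w, hw⟩ := pow_mul_pow _ H rfl (hG.to_subgroup H) (hR.subgroup H) ⟨u, hu⟩ ⟨v, hv⟩
    exact ⟨w, w.2, (congrArg Subtype.val hw).symm⟩
  | inv a _ ha =>
    obtain ⟨u, hu, rfl⟩ := ha
    exact ⟨u⁻¹, inv_mem hu, (inv_pow _ _).symm⟩

theorem commutator_powerClosure_le [Finite G] [Fact p.Prime] {n : ℕ} (hG : IsPGroup p G)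
    (hR : RegAt p n G) (H : Subgroup G) :
    ⁅powerClosure p n H, powerClosure p n H⁆ ≤ powerClosure p n ⁅H, H⁆ := by
  rw [Subgroup.commutator_le]
  intro s hs w hw
  rw [← SetLike.mem_coe, ← powerClosure_eq hG hR H] at hs
  obtain ⟨x, hx, rfl⟩ := hs
  have hwH : w ∈ H := powerClosure_le n H hw
  set b := w * x⁻¹ * w⁻¹ with hb
  have hbH : b ∈ H := mul_mem (mul_mem hwH (inv_mem hx)) (inv_mem hwH)
  obtain ⟨c, hc, he⟩ := hR x b
  have hc' : c ∈ powerClosure p n ⁅H, H⁆ := by
    refine powerClosure_mono n (Subgroup.commutator_mono ?_ ?_) hc <;>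
    · rw [Subgroup.closure_le]; rintro _ (rfl | rfl) <;> assumption
  have h1 : ⁅x ^ p ^ n, w⁆ = x ^ p ^ n * b ^ p ^ n := by
    rw [hb, show w * x⁻¹ * w⁻¹ = MulAut.conj w x⁻¹ from rfl, ← map_pow, MulAut.conj_apply, inv_pow,
      commutatorElement_def]
    group
  have h2 : (x * b) ^ p ^ n ∈ powerClosure p n ⁅H, H⁆ := by
    refine Subgroup.subset_closure ⟨x * b, ?_, rfl⟩
    have : x * b = ⁅x, w⁆ := by rw [hb, commutatorElement_def]; group
    rw [this]; exact Subgroup.commutator_mem_commutator hx hwH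
  have h3 : x ^ p ^ n * b ^ p ^ n = (x * b) ^ p ^ n * c⁻¹ := by rw [he, mul_inv_cancel_right]
  rw [h1, h3]
  exact mul_mem h2 (inv_mem hc')

/-- Regularity at exponent `p` gives regularity at all exponents. -/
theorem regAt_of_one [Finite G] [Fact p.Prime] (hG : IsPGroup p G) (h1 : RegAt p 1 G) :
    ∀ n, RegAt p n G := by
  intro n
  induction n with
  | zero => exact fun a b => ⟨1, one_mem _, by simp⟩
  | succ n ih =>
    intro a b
    set K := Subgroup.closure ({a, b} : Set G) with hK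
    set D := ⁅K, K⁆ with hD
    obtain ⟨c, hc, he⟩ := h1 a b
    rw [← SetLike.mem_coe, ← powerClosure_eq hG h1] at hc
    obtain ⟨d, hd, rfl⟩ := hc
    rw [pow_one] at he
    have hlift : ∀ u ∈ powerClosure p 1 K, ∀ v ∈ powerClosure p 1 K,
        powerClosure p n ⁅Subgroup.closure ({u, v} : Set G), Subgroup.closure ({u, v} : Set G)⁆ ≤
          powerClosure p (n + 1) D := by
      intro u hu v hv
      refine (powerClosure_mono n ((Subgroup.commutator_mono ?_ ?_).trans (commutator_powerClosure_le hG h1 K))).trans ?_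
      · rw [Subgroup.closure_le]; rintro _ (rfl | rfl) <;> assumption
      · rw [Subgroup.closure_le]; rintro _ (rfl | rfl) <;> assumption
      · show powerClosure p n (powerClosure p 1 ⁅K, K⁆) ≤ powerClosure p (n + 1) D
        conv_lhs => rw [powerClosure]
        rw [Subgroup.closure_le]
        rintro _ ⟨z, hz, rfl⟩
        rw [← SetLike.mem_coe, ← powerClosure_eq hG h1] at hz
        obtain ⟨w, hw, rfl⟩ := hz
        exact Subgroup.subset_closure ⟨w, hw, by rw [pow_one, ← pow_mul, ← pow_succ']⟩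
    have hpK : ∀ x ∈ K, x ^ p ∈ powerClosure p 1 K := fun x hx =>
      Subgroup.subset_closure (show x ^ p ∈ {y : G | ∃ z ∈ K, y = z ^ p ^ 1} from ⟨x, hx, by rw [pow_one]⟩)
    have ha : a ^ p ∈ powerClosure p 1 K := hpK a (Subgroup.subset_closure (by simp))
    have hb : b ^ p ∈ powerClosure p 1 K := hpK b (Subgroup.subset_closure (by simp))
    have hdK : d ^ p ∈ powerClosure p 1 K := hpK d ((Subgroup.commutator_le.2 fun g₁ h₁ g₂ h₂ => by
      rw [commutatorElement_def]; exact mul_mem (mul_mem (mul_mem h₁ h₂) (inv_mem h₁)) (inv_mem h₂)) hd)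
    obtain ⟨e1, he1, hp1⟩ := ih (a ^ p * b ^ p) (d ^ p)
    obtain ⟨e2, he2, hp2⟩ := ih (a ^ p) (b ^ p)
    refine ⟨e2 * (d ^ p ^ (n + 1)) * e1, mul_mem (mul_mem (hlift _ ha _ hb he2) ?_) (hlift _ (mul_mem ha hb) _ hdK he1), ?_⟩
    · exact Subgroup.subset_closure ⟨d, hd, rfl⟩
    · rw [pow_succ' p n, pow_mul, pow_mul, pow_mul, pow_mul, he, hp1, hp2]
      simp [mul_assoc]

theorem regular_of_one [Finite G] [Fact p.Prime] (hG : IsPGroup p G) (h1 : RegAt p 1 G) :
    IsRegularPGroup p G :=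
  ⟨hG, fun a b n => regAt_of_one hG h1 n a b⟩

theorem regAt_of_regular (h : IsRegularPGroup p G) (n : ℕ) : RegAt p n G := fun a b => h.2 a b n

end Cfsg.Agent.Lib.GenStruct.Regular
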