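import Cfsg.Prelude.Def_Local
import Cfsg.Agent.Lib.Components.Basic
import Cfsg.Agent.Lib.Components.Bender
import Cfsg.Agent.Lib.Components.PComponent
import Cfsg.Agent.Lib.Transfer.Tate
import Cfsg.Agent.Lib.PGroupFrattini
import Cfsg.Agent.Lib.Hall.Solvable

/-!
Groups with a nonabelian two-generated Sylow subgroup whose Frattini subgroup is core free.
-/

set_option autoImplicit false
set_option linter.style.haveILetI false
open Subgroup
open scoped commutatorElement

namespace Cfsg.Agent.Lib.TwoGenSylow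

theorem map_prod' {A B : Type*} [CommGroup A] [Group B] {ι : Type*} [Fintype ι] (π : A →* B)
    (C : ι → A) {b : B} (h : ∀ i, π (C i) = b) : π (∏ i, C i) = b ^ Nat.card ι := by
  classical
  rw [Nat.card_eq_fintype_card, ← Finset.card_univ]
  induction (Finset.univ : Finset ι) using Finset.induction_on with
  | empty => simp
  | insert i s hi ih => rw [Finset.prod_insert hi, map_mul, h, ih, Finset.card_insert_of_notMem hi, pow_succ']

section PGrp

variable {Q : Type*} [Group Q] [Finite Q] {p : ℕ} [hp : Fact p.Prime]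

theorem coatom_data (hQ : IsPGroup p Q) {M : Subgroup Q} (hM : IsCoatom M) :
    M.Normal ∧ M.index = p :=
  Cfsg.Agent.Lib.PGroupFrattini.coatom_index hQ hM

theorem exists_pair (hQ : IsPGroup p Q) (hnc : ¬ IsMulCommutative Q)
    (hidx : (frattini Q).index = p ^ 2) {a : Q} (ha : a ∉ frattini Q) :
    ∀ M : Subgroup Q, IsCoatom M → a ∈ M → ∀ g : Q, g ∉ M → closure ({a, g} : Set Q) = ⊤ := by
  intro M hM haM g hg
  by_contra hne
  obtain hK := (eq_top_or_exists_le_coatom (closure ({a, g} : Set Q))).resolve_left hne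
  obtain ⟨K, hK, hle⟩ := hK
  have haK : a ∈ K := hle (subset_closure (by simp))
  have hgK : g ∈ K := hle (subset_closure (by simp))
  have hΦ : frattini Q < M ⊓ K := by
    refine lt_of_le_of_ne (le_inf (frattini_le_coatom hM) (frattini_le_coatom hK)) fun h => ha ?_
    exact h.ge ⟨haM, haK⟩
  have hlt : M ⊓ K < M := by
    refine lt_of_le_of_ne inf_le_left fun h => ?_
    have hMK : M ≤ K := inf_eq_left.1 h
    exact hg ((hM.le_iff.1 hMK).resolve_left hK.1 ▸ hgK)
  have h1 := (coatom_data hQ hM).2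
  have h2 : (M ⊓ K).relIndex M ∣ p := by
    have hKn := (coatom_data hQ hK).1
    rw [inf_relIndex_left]
    exact (coatom_data hQ hK).2 ▸ relIndex_dvd_index_of_normal K M
  have h3 : (M ⊓ K).relIndex M ≠ 1 := fun h => hlt.not_ge (relIndex_eq_one.1 h)
  have h4 : (M ⊓ K).relIndex M = p := ((Nat.dvd_prime hp.out).1 h2).resolve_left h3
  have h5 : (M ⊓ K).index = p ^ 2 := by
    rw [← relIndex_mul_index hlt.le, h4, h1, sq]
  have h6 := relIndex_mul_index hΦ.le
  rw [h5, hidx] at h6
  have h7 : (frattini Q).relIndex (M ⊓ K) = 1 :=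
    Nat.eq_of_mul_eq_mul_right (by have := hp.out.pos; positivity) (h6.trans (one_mul _).symm)
  exact hΦ.not_ge (relIndex_eq_one.1 h7)

theorem exists_coatom_mem (hQ : IsPGroup p Q) (hnc : ¬ IsMulCommutative Q) (a : Q) :
    ∃ M : Subgroup Q, IsCoatom M ∧ a ∈ M ∧ ∃ g, g ∉ M := by
  rcases eq_top_or_exists_le_coatom (zpowers a) with h | ⟨M, hM, hle⟩
  · refine absurd ⟨⟨fun x y => ?_⟩⟩ hnc
    obtain ⟨i, rfl⟩ := mem_zpowers_iff.1 (h ▸ mem_top x)
    obtain ⟨j, rfl⟩ := mem_zpowers_iff.1 (h ▸ mem_top y)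
    rw [← zpow_add, add_comm, zpow_add]
  · refine ⟨M, hM, hle (mem_zpowers a), ?_⟩
    by_contra h
    push Not at h
    exact hM.1 ((eq_top_iff' M).2 h)

theorem sup_zpowers_eq_top {A : Subgroup Q} {a g : Q} (haA : a ∈ A)
    (h : closure ({a, g} : Set Q) = ⊤) : A ⊔ zpowers g = ⊤ := by
  rw [eq_top_iff, ← h, closure_le]
  rintro x (rfl | rfl)
  · exact mem_sup_left haA
  · exact mem_sup_right (mem_zpowers _)

theorem commutator_le_of_cyclic {A : Subgroup Q} [A.Normal] {g : Q}
    (h : A ⊔ zpowers g = ⊤) : commutator Q ≤ A := by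
  rw [← Normal.quotient_commutative_iff_commutator_le]
  refine ⟨⟨fun x y => ?_⟩⟩
  have key : ∀ z : Q ⧸ A, z ∈ zpowers (QuotientGroup.mk' A g) := by
    intro z
    obtain ⟨z, rfl⟩ := QuotientGroup.mk'_surjective A z
    have hz : z ∈ A ⊔ zpowers g := h ▸ mem_top z
    obtain ⟨u, hu, v, hv, rfl⟩ := mem_sup_of_normal_left.1 hz
    obtain ⟨i, rfl⟩ := mem_zpowers_iff.1 hv
    rw [map_mul, map_zpow, (QuotientGroup.eq_one_iff (N := A) u).2 hu |> (fun e : QuotientGroup.mk' A u = 1 => e), one_mul]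
    exact zpow_mem_zpowers _ i
  obtain ⟨i, rfl⟩ := mem_zpowers_iff.1 (key x)
  obtain ⟨j, rfl⟩ := mem_zpowers_iff.1 (key y)
  rw [← zpow_add, add_comm, zpow_add]

/-- Two disjoint normal subgroups cannot both escape the Frattini subgroup. -/
theorem disjoint_false (hQ : IsPGroup p Q) (hnc : ¬ IsMulCommutative Q)
    (hidx : (frattini Q).index = p ^ 2) (A B : Subgroup Q) [A.Normal] [B.Normal]
    (hA : ¬ A ≤ frattini Q) (hB : ¬ B ≤ frattini Q) (hAB : A ⊓ B = ⊥) : False := by
  obtain ⟨a, haA, ha⟩ := SetLike.not_le_iff_exists.1 hA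
  obtain ⟨b, hbB, hb⟩ := SetLike.not_le_iff_exists.1 hB
  apply hnc
  by_cases h : closure ({a, b} : Set Q) = ⊤
  · have hcomm : a * b = b * a :=
      commutatorElement_eq_one_iff_mul_comm.1 (mem_bot.1 (hAB ▸ mem_inf.2
        ⟨commutator_le_left A B (commutator_mem_commutator haA hbB),
          commutator_le_right A B (commutator_mem_commutator haA hbB)⟩))
    have : IsMulCommutative ↥(closure ({a, b} : Set Q)) := by
      apply Subgroup.isMulCommutative_closure
      rintro x (rfl | rfl) y (rfl | rfl)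
      exacts [rfl, hcomm, hcomm.symm, rfl]
    refine ⟨⟨fun x y => ?_⟩⟩
    exact congrArg Subtype.val (this.is_comm.comm ⟨x, h ▸ mem_top x⟩ ⟨y, h ▸ mem_top y⟩)
  · obtain ⟨M, hM, hle⟩ := (eq_top_or_exists_le_coatom _).resolve_left h
    obtain ⟨g, hg⟩ : ∃ g, g ∉ M := by
      by_contra h'
      push Not at h'
      exact hM.1 ((eq_top_iff' M).2 h')
    have haM : a ∈ M := hle (subset_closure (by simp))
    have hbM : b ∈ M := hle (subset_closure (by simp))
    have h1 := commutator_le_of_cyclic (sup_zpowers_eq_top haA (exists_pair hQ hnc hidx ha M hM haM g hg))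
    have h2 := commutator_le_of_cyclic (sup_zpowers_eq_top hbB (exists_pair hQ hnc hidx hb M hM hbM g hg))
    exact (_root_.commutator_eq_bot_iff _).1 (le_bot_iff.1 (hAB ▸ le_inf h1 h2))

theorem exists_cyclic_generator (hQ : IsPGroup p Q) (hnc : ¬ IsMulCommutative Q)
    (hidx : (frattini Q).index = p ^ 2) (A : Subgroup Q) (hA : ¬ A ≤ frattini Q) :
    ∃ g : Q, A ⊔ zpowers g = ⊤ := by
  obtain ⟨a, haA, ha⟩ := SetLike.not_le_iff_exists.1 hA
  obtain ⟨M, hM, haM, g, hg⟩ := exists_coatom_mem hQ hnc a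
  exact ⟨g, sup_zpowers_eq_top haA (exists_pair hQ hnc hidx ha M hM haM g hg)⟩

theorem frattini_normal_le (hQ : IsPGroup p Q) (A : Subgroup Q) :
    (frattini ↥A).map A.subtype ≤ frattini Q := by
  rw [map_le_iff_le_comap]
  refine Cfsg.Agent.Lib.PGroupFrattini.frattini_le hp.out _ ?_ fun x => ?_
  · rw [← map_le_iff_le_comap]
    refine le_trans ?_ (Cfsg.Agent.Lib.PGroupFrattini.commutator_le_frattini hQ)
    rw [map_subtype_commutator]
    exact commutator_mono le_top le_top
  · exact Cfsg.Agent.Lib.PGroupFrattini.pow_mem_frattini hQ (x : Q)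

end PGrp

variable {G : Type*} [Group G] [Finite G] {p : ℕ} [hp : Fact p.Prime]

/-- The Frattini subgroup of a Sylow subgroup, as a subgroup of `G`. -/
abbrev phi (P : Sylow p G) : Subgroup G :=
  (frattini ↥(P : Subgroup G)).map (P : Subgroup G).subtype

variable (P : Sylow p G)

theorem not_le_phi (hcore : pPrimeCore p G = ⊥) (hfrat : (phi P).normalCore = ⊥)
    (N : Subgroup G) [N.Normal] (hN : N ≠ ⊥) : ¬ N ⊓ (P : Subgroup G) ≤ phi P := by
  intro h
  have hc := Cfsg.Agent.Lib.Transfer.tate P N h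
  rw [Cfsg.Agent.Lib.Transfer.hasNormalPComplement_iff] at hc
  haveI := Cfsg.Agent.Lib.Transfer.pResidual_characteristic (G := N) (p := p)
  haveI : ((pResidual p N).map N.subtype).Normal := ConjAct.normal_of_characteristic_of_normal
  have h1 : (pResidual p N).map N.subtype = ⊥ := le_bot_iff.1 (hcore ▸
    Cfsg.Agent.Lib.Components.le_pPrimeCore (by
      rw [card_map_of_injective N.subtype_injective]
      exact (hp.out.coprime_iff_not_dvd.2 hc).symm))
  have h2 : IsPGroup p N := by
    have h3 := Cfsg.Agent.Lib.Transfer.isPGroup_quotient_pResidual (G := N) (p := p)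
    exact h3.of_equiv ((QuotientGroup.quotientMulEquivOfEq
      ((map_eq_bot_iff_of_injective _ N.subtype_injective).1 h1)).trans QuotientGroup.quotientBot)
  have h4 : N ≤ (P : Subgroup G) := by
    obtain ⟨Q, hQ⟩ := h2.exists_le_sylow
    obtain ⟨g, hg⟩ := MulAction.exists_smul_eq G Q P
    rw [← hg, Sylow.coe_subgroup_smul]
    intro x hx
    rw [Subgroup.mem_pointwise_smul_iff_inv_smul_mem]
    refine hQ ?_
    simpa [MulAut.conj_apply] using Normal.conj_mem' ‹N.Normal› x hx g
  rw [inf_eq_left.2 h4] at h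
  exact hN (le_bot_iff.1 (hfrat ▸ normal_le_normalCore.2 h))

theorem not_le_frattini_of (M : Subgroup G) (h : ¬ M ⊓ (P : Subgroup G) ≤ phi P) :
    ¬ M.subgroupOf (P : Subgroup G) ≤ frattini ↥(P : Subgroup G) := fun h' =>
  h (by
    rw [← subgroupOf_map_subtype]
    exact map_mono h')

theorem unique_normal (hna : ¬ IsMulCommutative (P : Subgroup G))
    (hgen : (frattini ↥(P : Subgroup G)).index = p ^ 2) (hcore : pPrimeCore p G = ⊥)
    (hfrat : (phi P).normalCore = ⊥) (N K : Subgroup G) [N.Normal] [K.Normal]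
    (hN : N ≠ ⊥) (hK : K ≠ ⊥) : N ⊓ K ≠ ⊥ := by
  intro h
  refine disjoint_false P.2 hna hgen (N.subgroupOf _) (K.subgroupOf _)
    (not_le_frattini_of P N (not_le_phi P hcore hfrat N hN))
    (not_le_frattini_of P K (not_le_phi P hcore hfrat K hK)) ?_
  rw [subgroupOf, subgroupOf, ← comap_inf, h]
  exact bot_subgroupOf _

theorem map_cyclic (hna : ¬ IsMulCommutative (P : Subgroup G))
    (hgen : (frattini ↥(P : Subgroup G)).index = p ^ 2)
    (N : Subgroup G) [N.Normal] (h : ¬ N ⊓ (P : Subgroup G) ≤ phi P) :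
    ∃ g : G, g ∈ (P : Subgroup G) ∧ (P : Subgroup G) ≤ N ⊔ zpowers g := by
  obtain ⟨g, hg⟩ := exists_cyclic_generator P.2 hna hgen _ (not_le_frattini_of P N h)
  refine ⟨g, g.2, fun x hx => ?_⟩
  have h1 : (⟨x, hx⟩ : ↥(P : Subgroup G)) ∈ N.subgroupOf _ ⊔ zpowers g := hg ▸ mem_top _
  have h2 := mem_map_of_mem (P : Subgroup G).subtype h1
  rw [Subgroup.map_sup, MonoidHom.map_zpowers] at h2
  exact (sup_le_sup_right (by rw [subgroupOf_map_subtype]; exact inf_le_left) _ : _ ≤ N ⊔ zpowers (g : G)) h2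

/-- A minimal normal `p`-subgroup with cyclic Sylow quotient is all of `O_p`. -/
theorem eq_pCore (hfrat : (phi P).normalCore = ⊥) (N : Subgroup G) [N.Normal] (hN : N ≠ ⊥)
    (hNp : IsPGroup p N) (hmin : ∀ K : Subgroup G, K.Normal → K ≠ ⊥ → N ≤ K)
    {g : G} (hg : g ∈ (P : Subgroup G)) (hgen : (P : Subgroup G) ≤ N ⊔ zpowers g) :
    pCore p G = N := by
  have hNF : N ≤ pCore p G := Cfsg.Agent.Lib.Components.le_pCore hNp
  have hFP : pCore p G ≤ (P : Subgroup G) := by
    have hF := Cfsg.Agent.Lib.Components.pCore_isPGroup (G := G) p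
    obtain ⟨Q, hQ⟩ := hF.exists_le_sylow
    obtain ⟨h, hh⟩ := MulAction.exists_smul_eq G Q P
    rw [← hh, Sylow.coe_subgroup_smul]
    intro x hx
    rw [Subgroup.mem_pointwise_smul_iff_inv_smul_mem]
    refine hQ ?_
    simpa [MulAut.conj_apply] using Normal.conj_mem' (pCore_normal p G) x hx h
  -- `O_p(G)` is elementary abelian
  have hel : (frattini ↥(pCore p G)).map (pCore p G).subtype = ⊥ := by
    haveI : ((frattini ↥(pCore p G)).map (pCore p G).subtype).Normal :=
      ConjAct.normal_of_characteristic_of_normal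
    refine le_bot_iff.1 (hfrat ▸ normal_le_normalCore.2 ?_)
    have e := frattini_normal_le P.2 ((pCore p G).subgroupOf (P : Subgroup G))
    have e2 := map_mono (f := (P : Subgroup G).subtype) e
    refine le_trans ?_ e2
    rintro x ⟨y, hy, rfl⟩
    let f := subgroupOfEquivOfLe hFP
    refine ⟨(f.symm y : ↥(P : Subgroup G)), ⟨f.symm y, ?_, rfl⟩, rfl⟩
    exact frattini_le_comap_frattini_of_surjective (φ := f.symm.toMonoidHom) f.symm.surjective hy
  have hel' : frattini ↥(pCore p G) = ⊥ :=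
    (map_eq_bot_iff_of_injective _ (pCore p G).subtype_injective).1 hel
  have hFp := Cfsg.Agent.Lib.Components.pCore_isPGroup (G := G) p
  have hab : ∀ x ∈ pCore p G, ∀ y ∈ pCore p G, x * y = y * x := fun x hx y hy => by
    let a : ↥(pCore p G) := ⟨x, hx⟩
    let b : ↥(pCore p G) := ⟨y, hy⟩
    have h1 := Cfsg.Agent.Lib.PGroupFrattini.commutator_le_frattini hFp
      (commutator_mem_commutator (mem_top a) (mem_top b))
    rw [hel', mem_bot] at h1
    exact congrArg Subtype.val (commutatorElement_eq_one_iff_mul_comm.1 h1)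
  have hexp : ∀ x ∈ pCore p G, x ^ p = 1 := fun x hx => by
    have h1 := Cfsg.Agent.Lib.PGroupFrattini.pow_mem_frattini hFp (⟨x, hx⟩ : ↥(pCore p G))
    rw [hel', mem_bot] at h1
    exact congrArg Subtype.val h1
  refine le_antisymm (fun f hf => ?_) hNF
  by_contra hfN
  -- an element of `O_p` outside `N` fixed by `P`
  obtain ⟨f₀, hf₀, hf₀N, hf₀P⟩ : ∃ f₀ ∈ pCore p G, f₀ ∉ N ∧ ∀ x ∈ (P : Subgroup G), x * f₀ = f₀ * x := by
    obtain ⟨u, hu, v, hv, huv⟩ := mem_sup_of_normal_left.1 (hgen (hFP hf))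
    have hvF : v ∈ pCore p G := by
      rw [show v = u⁻¹ * f by rw [← huv]; group]
      exact mul_mem (inv_mem (hNF hu)) hf
    refine ⟨v, hvF, fun h => hfN (huv ▸ mul_mem hu h), fun x hx => ?_⟩
    obtain ⟨a, ha, b, hb, rfl⟩ := mem_sup_of_normal_left.1 (hgen hx)
    obtain ⟨i, rfl⟩ := mem_zpowers_iff.1 hv
    obtain ⟨j, rfl⟩ := mem_zpowers_iff.1 hb
    have e1 : Commute a (g ^ i) := hab _ (hNF ha) _ hvF
    exact e1.mul_left (Commute.zpow_zpow_self g j i)
  have hordf : orderOf f₀ = p := orderOf_eq_prime (hexp f₀ hf₀) fun h => hf₀N (h ▸ N.one_mem)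
  have hFsup : pCore p G ≤ N ⊔ zpowers f₀ := by
    intro x hx
    obtain ⟨u, hu, v, hv, rfl⟩ := mem_sup_of_normal_left.1 (hgen (hFP hx))
    obtain ⟨u', hu', v', hv', huv'⟩ := mem_sup_of_normal_left.1 (hgen (hFP hf₀))
    have hvF : v ∈ pCore p G := by
      rw [show v = u⁻¹ * (u * v) by group]
      exact mul_mem (inv_mem (hNF hu)) hx
    have hvF' : v' ∈ pCore p G := by
      rw [show v' = u'⁻¹ * f₀ by rw [← huv']; group]
      exact mul_mem (inv_mem (hNF hu')) hf₀
    refine mul_mem (mem_sup_left hu) ?_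
    have hv'N : v' ∉ N := fun h => hf₀N (huv' ▸ mul_mem hu' h)
    -- the cyclic group of elements of `O_p` inside `⟨g⟩` has order at most `p`
    have hv'1 : v' ≠ 1 := fun h => hv'N (h ▸ N.one_mem)
    let D : Subgroup G := pCore p G ⊓ zpowers g
    haveI : IsCyclic D := isCyclic_of_le (show D ≤ zpowers g from inf_le_right)
    have hDp : Nat.card D ∣ p := by
      rw [← IsCyclic.exponent_eq_card]
      exact Monoid.exponent_dvd_of_forall_pow_eq_one fun d => Subtype.ext (hexp _ d.2.1)
    have hD2 : zpowers v' = D := by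
      refine Subgroup.eq_of_le_of_card_ge (zpowers_le.2 ⟨hvF', hv'⟩) ?_
      refine (Nat.le_of_dvd hp.out.pos hDp).trans ?_
      rw [Nat.card_zpowers, orderOf_eq_prime (hexp v' hvF') hv'1]
    have hvz : v ∈ zpowers v' := hD2 ▸ (⟨hvF, hv⟩ : v ∈ D)
    refine (zpowers_le.2 ?_ : zpowers v' ≤ N ⊔ zpowers f₀) hvz
    rw [show v' = u'⁻¹ * f₀ by rw [← huv']; group]
    exact mul_mem (mem_sup_left (inv_mem hu')) (mem_sup_right (mem_zpowers f₀))
  have hd : ∀ x : G, ∃ d : ℕ, x⁻¹ * f₀ * x * (f₀ ^ d)⁻¹ ∈ N := by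
    intro x
    obtain ⟨u, hu, v, hv, huv⟩ :=
      mem_sup_of_normal_left.1 (hFsup (Normal.conj_mem' (pCore_normal p G) f₀ hf₀ x))
    obtain ⟨d, hvd⟩ := (Submonoid.mem_powers_iff _ _).1
      ((isOfFinOrder_of_finite f₀).mem_powers_iff_mem_zpowers.2 hv)
    exact ⟨d, by rw [← huv, hvd, mul_inv_cancel_right]; exact hu⟩
  choose d hd using hd
  -- exponents are determined modulo `N`
  have huniq : ∀ i j : ℕ, f₀ ^ i * (f₀ ^ j)⁻¹ ∈ N → f₀ ^ i = f₀ ^ j := by
    intro i j h
    rw [← mul_inv_eq_one]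
    by_contra hne
    have hk : f₀ ^ i * (f₀ ^ j)⁻¹ ∈ zpowers f₀ :=
      mul_mem (npow_mem_zpowers f₀ i) (inv_mem (npow_mem_zpowers f₀ j))
    haveI hcz : Fact (Nat.card (zpowers f₀)).Prime := ⟨by rw [Nat.card_zpowers, hordf]; exact hp.out⟩
    rcases ((N.subgroupOf (zpowers f₀)).eq_bot_or_eq_top_of_prime_card) with hb | hb
    · have hm : (⟨f₀ ^ i * (f₀ ^ j)⁻¹, hk⟩ : ↥(zpowers f₀)) ∈ N.subgroupOf (zpowers f₀) := h
      rw [hb, mem_bot] at hm
      exact hne (congrArg Subtype.val hm)
    · exact hf₀N (subgroupOf_eq_top.1 hb (mem_zpowers f₀))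
  let c : G → G := fun x => x * f₀ ^ d x * x⁻¹
  have hcF : ∀ x, c x ∈ pCore p G := fun x =>
    (pCore_normal p G).conj_mem _ (pow_mem hf₀ _) x
  have hcP : ∀ x y : G, x⁻¹ * y ∈ (P : Subgroup G) → c y = c x := by
    intro x y hxy
    obtain ⟨q, rfl⟩ : ∃ q, y = x * q := ⟨x⁻¹ * y, by group⟩
    rw [inv_mul_cancel_left] at hxy
    have hq := hf₀P q hxy
    have e : f₀ ^ d (x * q) = f₀ ^ d x := by
      refine huniq _ _ ?_
      have h1 := hd (x * q)
      have h2 : q⁻¹ * (x⁻¹ * f₀ * x * (f₀ ^ d x)⁻¹) * q ∈ N :=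
        Normal.conj_mem' ‹N.Normal› _ (hd x) q
      have h3 : q⁻¹ * (f₀ ^ d x)⁻¹ * q = (f₀ ^ d x)⁻¹ := by
        rw [mul_assoc, ((show Commute q f₀ from hq).pow_right _).inv_right.symm.eq, inv_mul_cancel_left]
      have h4 := mul_mem (inv_mem h1) h2
      rw [show q⁻¹ * (x⁻¹ * f₀ * x * (f₀ ^ d x)⁻¹) * q = ((x * q)⁻¹ * f₀ * (x * q)) * (q⁻¹ * (f₀ ^ d x)⁻¹ * q) by group,
        h3] at h4
      simpa [mul_assoc] using h4
    show x * q * f₀ ^ d (x * q) * (x * q)⁻¹ = x * f₀ ^ d x * x⁻¹
    rw [e, mul_inv_rev, mul_assoc x q, ((show Commute q f₀ from hq).pow_right _).eq]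
    group
  haveI : IsMulCommutative ↥(pCore p G) := ⟨⟨fun a b => Subtype.ext (hab _ a.2 _ b.2)⟩⟩
  letI : CommGroup ↥(pCore p G) :=
    { (inferInstance : Group ↥(pCore p G)) with mul_comm := fun a b => Subtype.ext (hab _ a.2 _ b.2) }
  haveI : Fintype (G ⧸ (P : Subgroup G)) := Fintype.ofFinite _
  let C : G ⧸ (P : Subgroup G) → ↥(pCore p G) :=
    Quotient.lift (fun x => ⟨c x, hcF x⟩) fun x y h =>
      Subtype.ext (hcP x y (QuotientGroup.leftRel_apply.1 h)).symm
  let F₁ : ↥(pCore p G) := ∏ q, C q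
  let π : ↥(pCore p G) →* G ⧸ N := (QuotientGroup.mk' N).comp (pCore p G).subtype
  have hC : ∀ q, π (C q) = QuotientGroup.mk' N f₀ := by
    intro q
    induction q using Quotient.inductionOn' with
    | h x =>
      show QuotientGroup.mk' N (c x) = QuotientGroup.mk' N f₀
      have e : QuotientGroup.mk' N (f₀ ^ d x) = QuotientGroup.mk' N (x⁻¹ * f₀ * x) := by
        have h1 : QuotientGroup.mk' N (x⁻¹ * f₀ * x * (f₀ ^ d x)⁻¹) = 1 :=
          (QuotientGroup.eq_one_iff (N := N) _).2 (hd x)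
        rw [map_mul, map_inv, mul_inv_eq_one] at h1
        exact h1.symm
      simp only [c, map_mul, e, map_inv]
      group
  have hF1 : (F₁ : G) ∉ N := by
    intro h
    have h1 : π F₁ = 1 := (QuotientGroup.eq_one_iff (N := N) _).2 h
    rw [map_prod' π C hC] at h1
    rw [← map_pow, QuotientGroup.mk'_apply, QuotientGroup.eq_one_iff] at h1
    have h2 := huniq _ 0 (by simpa using h1)
    rw [pow_zero, ← orderOf_dvd_iff_pow_eq_one, hordf, ← Nat.card_eq_fintype_card, ← index_eq_card] at h2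
    exact P.not_dvd_index h2
  have hnorm : (zpowers (F₁ : G)).Normal := by
    refine ⟨fun y hy x => ?_⟩
    obtain ⟨i, rfl⟩ := mem_zpowers_iff.1 hy
    rw [← conj_zpow]
    refine zpow_mem ?_ i
    let σ : ↥(pCore p G) →* ↥(pCore p G) :=
      { toFun := fun a => ⟨x * (a : G) * x⁻¹, (pCore_normal p G).conj_mem _ a.2 x⟩
        map_one' := by ext; simp
        map_mul' := fun a b => by ext; simp }
    have hσ : (σ F₁) ^ d x = F₁ := by
      rw [map_prod, ← Finset.prod_pow]
      refine Fintype.prod_equiv (MulAction.toPerm x) _ _ fun q => ?_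
      induction q using Quotient.inductionOn' with
      | h z =>
        apply Subtype.ext
        show (x * c z * x⁻¹) ^ d x = c (x * z)
        rw [conj_pow]
        have e : f₀ ^ d (x * z) = (f₀ ^ d z) ^ d x := by
          rw [← pow_mul]
          refine huniq _ _ ?_
          have e3 : ∀ y : G, (QuotientGroup.mk' N y)⁻¹ * QuotientGroup.mk' N f₀ * QuotientGroup.mk' N y
              = QuotientGroup.mk' N f₀ ^ d y := by
            intro y
            have h1 : QuotientGroup.mk' N (y⁻¹ * f₀ * y * (f₀ ^ d y)⁻¹) = 1 :=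
              (QuotientGroup.eq_one_iff (N := N) _).2 (hd y)
            simpa only [map_mul, map_inv, map_pow, mul_inv_eq_one] using h1
          apply (QuotientGroup.eq_one_iff (N := N) _).1
          show QuotientGroup.mk' N (f₀ ^ d (x * z) * (f₀ ^ (d z * d x))⁻¹) = 1
          have hpz := conj_pow (a := (QuotientGroup.mk' N z)⁻¹) (b := QuotientGroup.mk' N f₀) (i := d x)
          rw [inv_inv, e3 z, ← pow_mul] at hpz
          rw [map_mul, map_inv, mul_inv_eq_one, map_pow, map_pow, hpz, ← e3, ← e3 x, map_mul]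
          group
        simp only [c, e]
        rw [conj_pow]
        group
    have hval : ((σ F₁ : ↥(pCore p G)) : G) ^ d x = (F₁ : G) := by
      exact congrArg Subtype.val hσ
    have hcop : (d x).Coprime (orderOf (x * (F₁ : G) * x⁻¹)) := by
      refine Nat.Coprime.coprime_dvd_right (orderOf_dvd_of_pow_eq_one (hexp _
        ((pCore_normal p G).conj_mem _ F₁.2 x))) ?_
      refine (hp.out.coprime_iff_not_dvd.2 fun h => hF1 ?_).symm
      obtain ⟨k, hk⟩ := h
      rw [← hval, hk, pow_mul]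
      rw [hexp _ (σ F₁).2, one_pow]
      exact N.one_mem
    obtain ⟨m, hm⟩ := exists_pow_eq_self_of_coprime hcop
    rw [← hm]
    have : (x * (F₁ : G) * x⁻¹) ^ d x = (F₁ : G) := hval
    rw [this]
    exact npow_mem_zpowers _ m
  have hne : zpowers (F₁ : G) ≠ ⊥ := by
    rw [Ne, zpowers_eq_bot]
    exact fun h => hF1 (h ▸ N.one_mem)
  haveI : Fact (Nat.card (zpowers (F₁ : G))).Prime := ⟨by
    rw [Nat.card_zpowers, orderOf_eq_prime (hexp _ F₁.2) fun h => hF1 (h ▸ N.one_mem)]
    exact hp.out⟩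
  have hle := hmin _ hnorm hne
  rcases (N.subgroupOf (zpowers (F₁ : G))).eq_bot_or_eq_top_of_prime_card with hb | hb
  · refine hN (le_bot_iff.1 ?_)
    rw [subgroupOf_eq_bot] at hb
    exact hb (le_refl N) hle
  · exact hF1 (subgroupOf_eq_top.1 hb (mem_zpowers _))

end Cfsg.Agent.Lib.TwoGenSylow

namespace Cfsg.Agent.Lib.TwoGenSylow

variable {G : Type*} [Group G] [Finite G] {p : ℕ} [hp : Fact p.Prime]
open Cfsg.Agent.Lib.Components

theorem comp_map_conj {L : Subgroup G} (hL : IsComponent L) (g : G) :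
    IsComponent (L.map (MulAut.conj g).toMonoidHom) :=
  isComponent_map_equiv hL (MulAut.conj g)

theorem generalizedFitting_eq (P : Sylow p G) (hna : ¬ IsMulCommutative (P : Subgroup G))
    (hgen : (frattini ↥(P : Subgroup G)).index = p ^ 2) (hcore : pPrimeCore p G = ⊥)
    (hfrat : (phi P).normalCore = ⊥) (N : Subgroup G) [N.Normal] (hN : N ≠ ⊥)
    (hmin : ∀ K : Subgroup G, K.Normal → K ≠ ⊥ → N ≤ K) :
    generalizedFittingSubgroup G = N ∧ (¬ IsMulCommutative N → layer G = N) := by
  have hphi := not_le_phi P hcore hfrat N hN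
  obtain ⟨g, hg, hPg⟩ := map_cyclic P hna hgen N hphi
  have hmin' : ∀ K : Subgroup G, K.Normal → K ≤ N → K = ⊥ ∨ K = N := fun K hK h =>
    or_iff_not_imp_left.2 fun h' => le_antisymm h (hmin K hK h')
  by_cases hc : IsMulCommutative N
  · -- `N` abelian
    refine ⟨?_, fun h => absurd hc h⟩
    haveI : Group.IsSolvable N := isSolvable_of_comm fun a b => hc.is_comm.comm a b
    obtain ⟨-, q, hq, hexp⟩ :=
      Cfsg.Agent.Lib.Hall.minimal_normal_solvable N hN hmin'
    haveI := Fact.mk hq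
    have hNq : IsPGroup q N := fun x => ⟨1, Subtype.ext (by simpa using hexp _ x.2)⟩
    have hqp : q = p := by
      by_contra hne
      obtain ⟨n, hn⟩ := IsPGroup.iff_card.1 hNq
      refine hN (le_bot_iff.1 (hcore ▸ le_pPrimeCore ?_))
      rw [hn]
      exact Nat.Coprime.pow_left n ((Nat.coprime_primes hq hp.out).2 hne)
    subst hqp
    have hO := eq_pCore P hfrat N hN hNq hmin hg hPg
    have hF : fittingSubgroup G = N := by
      refine le_antisymm ?_ (le_fittingSubgroup hNq.isNilpotent)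
      refine (fittingSubgroup_le_sup q).trans ?_
      rw [hO, hcore, sup_bot_eq]
    have hE : layer G = ⊥ := by
      by_contra hne
      haveI hEn : (layer G).Normal := inferInstance
      have hNE := hmin _ hEn hne
      have hcen : ⁅layer G, N⁆ = ⊥ := layer_commute_solvable inferInstance
      let E := layer G
      haveI : Group.IsPerfect ↥E := Subgroup.isPerfect_iff.2 layer_perfect
      skip
      obtain ⟨S, hS⟩ := Cfsg.Agent.Lib.Transfer.exists_sylow_inf P E
      have hSab : IsMulCommutative (S : Subgroup E) := by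
        refine ⟨⟨fun a b => ?_⟩⟩
        have hmem : ∀ c : (S : Subgroup E), ((c : E) : G) ∈ (P : Subgroup G) := fun c => by
          exact (hS.le c.2 :)
        have hcommN : ∀ u ∈ N, ∀ c : E, Commute u (c : G) := fun u hu c =>
          mem_centralizer_iff.1 (commutator_eq_bot_iff_le_centralizer.1 hcen c.2) u hu
        obtain ⟨u, hu, v, hv, huv⟩ := mem_sup_of_normal_left.1 (hPg (hmem a))
        obtain ⟨u', hu', v', hv', huv'⟩ := mem_sup_of_normal_left.1 (hPg (hmem b))
        obtain ⟨i, rfl⟩ := mem_zpowers_iff.1 hv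
        obtain ⟨j, rfl⟩ := mem_zpowers_iff.1 hv'
        apply Subtype.ext; apply Subtype.ext
        show ((a : E) : G) * ((b : E) : G) = ((b : E) : G) * ((a : E) : G)
        have e1 : Commute u u' := congrArg Subtype.val (hc.is_comm.comm ⟨u, hu⟩ ⟨u', hu'⟩)
        have e2 : Commute u (g ^ j) := by
          have := (e1.inv_right).mul_right (hcommN u hu (b : E))
          rwa [← huv', inv_mul_cancel_left] at this
        have e3 : Commute (g ^ i) (b : G) := by
          rw [← huv']
          refine Commute.mul_right ?_ (Commute.zpow_zpow_self g i j)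
          have := (e1.inv_left).mul_left (hcommN u' hu' (a : E)).symm
          rwa [← huv, inv_mul_cancel_left] at this
        have e4 : Commute u (b : G) := hcommN u hu (b : E)
        rw [← huv]
        exact (e4.mul_left e3).eq
      refine hN ((eq_bot_iff_forall _).2 fun z hz => ?_)
      have hzS : (⟨z, hNE hz⟩ : E) ∈ (S : Subgroup E) := by
        refine hS.ge ?_
        show z ∈ (P : Subgroup G)
        obtain ⟨Q, hQ⟩ := hNq.exists_le_sylow
        obtain ⟨h, hh⟩ := MulAction.exists_smul_eq G Q P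
        rw [← hh, Sylow.coe_subgroup_smul, Subgroup.mem_pointwise_smul_iff_inv_smul_mem]
        refine hQ ?_
        simpa [MulAut.conj_apply] using Normal.conj_mem' ‹N.Normal› z hz h
      have hzc : (⟨z, hNE hz⟩ : E) ∈ center E := mem_center_iff.2 fun c => Subtype.ext
        (mem_centralizer_iff.1 (commutator_eq_bot_iff_le_centralizer.1 hcen c.2) z hz).symm
      have hzd : (⟨z, hNE hz⟩ : E) ∈ commutator E := by
        rw [Group.IsPerfect.commutator_eq_top]; exact mem_top _
      have hcop : Nat.Coprime (Nat.card (S : Subgroup E)) (S : Subgroup E).index := S.card_coprime_index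
      exact congrArg Subtype.val
        (Cfsg.Agent.Lib.Transfer.eq_one_of_central_of_abelian _ hSab hcop hzS hzc hzd)
    rw [generalizedFittingSubgroup, hE, hF, bot_sup_eq]
  · -- `N` nonabelian
    have hns : ¬ Group.IsSolvable N := fun h =>
      hc (Cfsg.Agent.Lib.Hall.minimal_normal_solvable N hN hmin').1
    have hF : fittingSubgroup G = ⊥ := by
      by_contra hne
      haveI := fittingSubgroup_solvable (G := G)
      exact hns (solvable_of_solvable_injective (f := inclusion (hmin _ inferInstance hne))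
        (inclusion_injective _))
    have hR : solRad G ⊓ N = ⊥ := by
      by_contra hne
      haveI := solRad_solvable (G := G)
      exact hns (solvable_of_solvable_injective
        (f := inclusion (le_trans (hmin _ inferInstance hne) inf_le_left : N ≤ solRad G))
        (inclusion_injective _))
    obtain ⟨L₀, hL₀, hL₀N⟩ := exists_component_le (M := N) hns (hR ▸ bot_le)
    have hne : layer G ≠ ⊥ := fun h => comp_ne_bot hL₀ (le_bot_iff.1 (h ▸ comp_le_layer hL₀))
    have hE : layer G = N := by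
      refine le_antisymm (layer_le_iff.2 fun L hL => ?_) (hmin _ inferInstance hne)
      rcases comp_normal_dichotomy (M := N) hL with h | h
      · exact h
      · exfalso
        rw [commutator_eq_bot_iff_le_centralizer] at h
        have hcn : centralizer (N : Set G) ≠ ⊥ := fun h' => comp_ne_bot hL (le_bot_iff.1 (h' ▸ h))
        haveI : (centralizer (N : Set G)).Normal := Subgroup.normal_centralizer
        have := hmin _ inferInstance hcn
        exact hc ⟨⟨fun a b => Subtype.ext (mem_centralizer_iff.1 (this b.2) _ a.2)⟩⟩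
    exact ⟨by rw [generalizedFittingSubgroup, hE, hF, sup_bot_eq], fun _ => hE⟩

theorem comps_transitive (P : Sylow p G) (hna : ¬ IsMulCommutative (P : Subgroup G))
    (hgen : (frattini ↥(P : Subgroup G)).index = p ^ 2) (hcore : pPrimeCore p G = ⊥)
    (N : Subgroup G) [N.Normal] (hN : N ≠ ⊥) (hc : ¬ IsMulCommutative N)
    (hmin : ∀ K : Subgroup G, K.Normal → K ≠ ⊥ → N ≤ K) (hE : layer G = N)
    (K L : Subgroup G) (hK : IsComponent K) (hL : IsComponent L) :
    ∃ x ∈ (P : Subgroup G), L = K.map (MulAut.conj x).toMonoidHom := by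
  by_contra hnot
  push Not at hnot
  let S₁ : Set (Subgroup G) := {M | ∃ x ∈ (P : Subgroup G), M = K.map (MulAut.conj x).toMonoidHom}
  let S₂ : Set (Subgroup G) := {M | IsComponent M ∧ M ∉ S₁}
  have hS₁c : ∀ M ∈ S₁, IsComponent M := fun M ⟨x, _, hx⟩ => hx ▸ comp_map_conj hK x
  have hcomm : ⁅sSup S₁, sSup S₂⁆ = ⊥ := commutator_sSup_eq_bot fun A hA => by
    rw [commutator_comm]
    exact commutator_sSup_eq_bot fun B hB => comp_commute hB.1 (hS₁c A hA) fun h => hB.2 (h ▸ hA)
  have hmem : ∀ (M : Subgroup G) (x : G), x ∈ (P : Subgroup G) →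
      M ∈ S₁ → M.map (MulAut.conj x).toMonoidHom ∈ S₁ := by
    rintro M x hx ⟨y, hy, rfl⟩
    refine ⟨x * y, mul_mem hx hy, ?_⟩
    rw [map_map]
    congr 1
    ext z
    simp [mul_assoc]
  have hfix : ∀ (M : Subgroup G), IsComponent M → ∀ x ∈ N, M.map (MulAut.conj x).toMonoidHom = M :=
    fun M hM x hx => map_conj_eq_of_mem_normalizer (comp_normal_in_layer hM (hE.symm ▸ hx))
  -- each of the two joins is normalized by `P` and `N`
  have hinv : ∀ (S : Set (Subgroup G)) (x : G),
      (∀ M ∈ S, M.map (MulAut.conj x).toMonoidHom ∈ S) → x ∈ normalizer ((sSup S : Subgroup G) : Set G) := by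
    intro S x hS
    refine mem_normalizer_of_map_conj_eq ?_
    have hle : (sSup S).map (MulAut.conj x).toMonoidHom ≤ sSup S := by
      rw [map_le_iff_le_comap]
      exact sSup_le fun M hM => map_le_iff_le_comap.1 (le_sSup (hS M hM))
    exact Subgroup.eq_of_le_of_card_ge hle
      (card_map_of_injective (MulAut.conj x).injective).ge
  have hS₂ : ∀ (M : Subgroup G) (x : G), x ∈ (P : Subgroup G) →
      M ∈ S₂ → M.map (MulAut.conj x).toMonoidHom ∈ S₂ := by
    rintro M x hx ⟨hM, hM'⟩
    refine ⟨comp_map_conj hM x, fun h => hM' ?_⟩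
    have := hmem _ x⁻¹ (inv_mem hx) h
    rw [map_map] at this
    convert this using 1
    rw [show ((MulAut.conj x⁻¹).toMonoidHom.comp (MulAut.conj x).toMonoidHom) = MonoidHom.id G by
      ext z; simp [mul_assoc], Subgroup.map_id]
  have hleN : ∀ M : Subgroup G, IsComponent M → M ≤ N := fun M hM => hE ▸ comp_le_layer hM
  have hkey : ∀ (S : Set (Subgroup G)), (∀ M ∈ S, IsComponent M) → S.Nonempty →
      (∀ (M : Subgroup G) (x : G), x ∈ (P : Subgroup G) → M ∈ S → M.map (MulAut.conj x).toMonoidHom ∈ S) →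
      (sSup S ⊓ (P : Subgroup G)).subgroupOf (P : Subgroup G) ≤ frattini ↥(P : Subgroup G) → False := by
    intro S hSc hne hSP hle
    obtain ⟨M, hM⟩ := hne
    let H : Subgroup G := N ⊔ (P : Subgroup G)
    have hH : H ≤ normalizer ((sSup S : Subgroup G) : Set G) := sup_le
      (fun x hx => hinv S x fun A hA => (hfix A (hSc A hA) x hx).symm ▸ hA)
      (fun x hx => hinv S x fun A hA => hSP A x hx hA)
    have hSH : sSup S ≤ H := sSup_le fun A hA => (hleN A (hSc A hA)).trans le_sup_left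
    haveI : ((sSup S).subgroupOf H).Normal := normal_subgroupOf_of_le_normalizer hH
    let P₁ : Sylow p H := P.subtype le_sup_right
    have hd : HasNormalPComplement p ↥((sSup S).subgroupOf H) := by
      refine Cfsg.Agent.Lib.Transfer.tate P₁ _ ?_
      rintro ⟨x, hxH⟩ ⟨hx1, hx2⟩
      have hxP : x ∈ (P : Subgroup G) := by
        have := hx2
        simpa [P₁, Sylow.coe_subtype, mem_subgroupOf] using this
      have h1 : (⟨x, hxP⟩ : ↥(P : Subgroup G)) ∈ frattini ↥(P : Subgroup G) := hle ⟨hx1, hxP⟩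
      let ε : ↥(P₁ : Subgroup H) ≃* ↥(P : Subgroup G) :=
        (MulEquiv.subgroupCongr (Sylow.coe_subtype ..)).trans (subgroupOfEquivOfLe le_sup_right)
      refine ⟨ε.symm ⟨x, hxP⟩, ?_, rfl⟩
      exact frattini_le_comap_frattini_of_surjective (φ := ε.symm.toMonoidHom) ε.symm.surjective h1
    have hd' : HasNormalPComplement p ↥M := by
      refine Cfsg.Agent.Lib.Transfer.HasNormalPComplement.of_injective
        ((subgroupOfEquivOfLe hSH).symm.toMonoidHom.comp (inclusion (le_sSup hM))) ?_ hd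
      exact (subgroupOfEquivOfLe hSH).symm.injective.comp (inclusion_injective _)
    rw [Cfsg.Agent.Lib.Transfer.hasNormalPComplement_iff] at hd'
    have hdvd := comp_dvd_card (p := p) hcore (hSc M hM)
    have h2 := Cfsg.Agent.Lib.Transfer.isPGroup_quotient_pResidual (G := M) (p := p)
    have hperf : Group.IsPerfect ↥M := Subgroup.isPerfect_iff.2 (comp_perfect (hSc M hM))
    by_cases h3 : pResidual p M = ⊤
    · rw [h3, card_top] at hd'; exact hd' hdvd
    · haveI : Nontrivial (M ⧸ pResidual p M) := QuotientGroup.nontrivial_iff.2 h3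
      haveI := h2.isNilpotent
      haveI : Group.IsSolvable (M ⧸ pResidual p M) := inferInstance
      have h4 := Group.IsSolvable.commutator_lt_top_of_nontrivial (M ⧸ pResidual p M)
      refine h4.ne ?_
      have := congrArg (Subgroup.map (QuotientGroup.mk' (pResidual p M))) (Group.IsPerfect.commutator_eq_top (G := M))
      rw [map_top_of_surjective _ (QuotientGroup.mk'_surjective _)] at this
      rw [← this, _root_.commutator_def, _root_.commutator_def, map_commutator,
        map_top_of_surjective _ (QuotientGroup.mk'_surjective _)]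
  have hcenN : N ⊓ centralizer (N : Set G) = ⊥ := by
    by_contra hne
    haveI : (centralizer (N : Set G)).Normal := Subgroup.normal_centralizer
    have := (hmin _ inferInstance hne).trans inf_le_right
    exact hc ⟨⟨fun a b => Subtype.ext (mem_centralizer_iff.1 (this b.2) _ a.2)⟩⟩
  have hne₁ : S₁.Nonempty := ⟨K, 1, one_mem _, by ext z; simp⟩
  have hne₂ : S₂.Nonempty := ⟨L, hL, fun ⟨x, hx, he⟩ => hnot x hx he⟩
  have hN₁ : sSup S₁ ≤ N := sSup_le fun A hA => hleN A (hS₁c A hA)
  have hN₂ : sSup S₂ ≤ N := sSup_le fun A hA => hleN A hA.1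
  have hNsup : N ≤ sSup S₁ ⊔ sSup S₂ := by
    rw [← hE]
    exact layer_le_iff.2 fun A hA => (em (A ∈ S₁)).elim
      (fun h => (le_sSup h).trans le_sup_left) fun h => (le_sSup (show A ∈ S₂ from ⟨hA, h⟩)).trans le_sup_right
  haveI hn₁ : ((sSup S₁ ⊓ (P : Subgroup G)).subgroupOf (P : Subgroup G)).Normal := by
    rw [inf_subgroupOf_right]
    exact normal_subgroupOf_of_le_normalizer fun x hx => hinv S₁ x fun A hA => hmem A x hx hA
  haveI hn₂ : ((sSup S₂ ⊓ (P : Subgroup G)).subgroupOf (P : Subgroup G)).Normal := by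
    rw [inf_subgroupOf_right]
    exact normal_subgroupOf_of_le_normalizer fun x hx => hinv S₂ x fun A hA => hS₂ A x hx hA
  refine disjoint_false P.2 hna hgen ((sSup S₁ ⊓ (P : Subgroup G)).subgroupOf _)
    ((sSup S₂ ⊓ (P : Subgroup G)).subgroupOf _) (hkey S₁ hS₁c hne₁ hmem)
    (hkey S₂ (fun A hA => hA.1) hne₂ hS₂) ?_
  refine (eq_bot_iff_forall _).2 fun z hz => ?_
  have h1 : (z : G) ∈ sSup S₁ := hz.1.1
  have h2 : (z : G) ∈ sSup S₂ := hz.2.1
  have h3 : (z : G) ∈ centralizer (N : Set G) := by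
    have hc₁ := commutator_eq_bot_iff_le_centralizer.1 hcomm
    have hc₂ := commutator_eq_bot_iff_le_centralizer.1 (show ⁅sSup S₂, sSup S₁⁆ = ⊥ by rw [commutator_comm]; exact hcomm)
    have e1 : sSup S₁ ⊔ sSup S₂ ≤ centralizer ({(z : G)} : Set G) := by
      refine sup_le (fun y hy => ?_) (fun y hy => ?_)
      · exact mem_centralizer_singleton_iff.2 (mem_centralizer_iff.1 (hc₁ hy) _ h2).symm
      · exact mem_centralizer_singleton_iff.2 (mem_centralizer_iff.1 (hc₂ hy) _ h1).symm
    exact mem_centralizer_iff.2 fun n hn => mem_centralizer_singleton_iff.1 (e1 (hNsup hn))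
  have h4 : (z : G) ∈ N ⊓ centralizer (N : Set G) := ⟨hN₁ h1, h3⟩
  rw [hcenN, mem_bot] at h4
  exact Subtype.ext h4

end Cfsg.Agent.Lib.TwoGenSylow
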