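import Cfsg.Prelude.Def_Local
import Cfsg.Agent.Lib.PGroupFrattini
import Cfsg.Agent.Lib.Transfer.Basic
import Cfsg.Agent.Lib.GenStruct.TwoGenSylow
import Cfsg.Agent.Lib.LocalP2.MaxClassUpper
import Cfsg.Agent.Lib.Coprime.Basic

/-!
Sylow two-subgroups with small upper central series and small Frattini subgroup of the centralizer
of its third term: normalizer and weak closure.
-/

set_option autoImplicit false
set_option linter.style.haveILetI false
open Subgroup
open scoped commutatorElement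

namespace Cfsg.Agent.Lib.RudvalisType

/-- A normal subgroup of a finite `p`-group meeting the centre trivially is trivial. -/
theorem eq_bot_of_inf_center_eq_bot' {H : Type*} [Group H] [Finite H] {p : ℕ} [Fact p.Prime]
    (hH : IsPGroup p H) (N : Subgroup H) [hN : N.Normal] (h : N ⊓ center H = ⊥) : N = ⊥ := by
  haveI := hH.isNilpotent
  by_contra hne
  have hlt : ∀ M : Subgroup H, M.Normal → M ≠ ⊥ → ⁅M, (⊤ : Subgroup H)⁆ < M := fun M hM hne' =>
    haveI := hM
    lt_of_le_of_ne (commutator_le_left _ _) fun e =>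
      hne' (Cfsg.Agent.Lib.Transfer.eq_bot_of_le_commutator_top e.ge)
  obtain ⟨M, hM, hmin⟩ := Set.Finite.exists_minimal
    (Set.toFinite {M : Subgroup H | M.Normal ∧ M ≠ ⊥ ∧ M ≤ N}) ⟨N, hN, hne, le_rfl⟩
  obtain ⟨hMn, hMne, hMN⟩ := hM
  haveI := hMn
  have h1 : ⁅M, (⊤ : Subgroup H)⁆ = ⊥ := by
    by_contra h'
    exact (hlt M hMn hMne).not_ge (hmin ⟨inferInstance, h', (hlt M hMn hMne).le.trans hMN⟩ (hlt M hMn hMne).le)
  refine hMne (le_bot_iff.1 (h ▸ le_inf hMN ?_))
  rw [← centralizer_univ]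
  simpa using commutator_eq_bot_iff_le_centralizer.1 h1

section TwoGroup

variable {Q : Type*} [Group Q] [Finite Q]

local notation "Zc" => Subgroup.upperCentralSeries Q

theorem card_pow (hQ : IsPGroup 2 Q) (H : Subgroup Q) : ∃ k, Nat.card H = 2 ^ k :=
  IsPGroup.iff_card.1 (hQ.to_subgroup H)

theorem double_le_of_lt (hQ : IsPGroup 2 Q) {H K : Subgroup Q} (h : H < K) :
    2 * Nat.card H ≤ Nat.card K := by
  obtain ⟨a, ha⟩ := card_pow hQ H
  obtain ⟨b, hb⟩ := card_pow hQ K
  have : Nat.card H < Nat.card K := by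
    rcases lt_or_ge (Nat.card H) (Nat.card K) with h' | h'
    · exact h'
    · exact absurd (eq_of_le_of_card_ge h.le h') h.ne
  rw [ha, hb, Nat.pow_lt_pow_iff_right (by norm_num)] at this
  rw [ha, hb, ← pow_succ']
  exact Nat.pow_le_pow_right (by norm_num) this

theorem zc_card (hQ : IsPGroup 2 Q) (hlarge : 16 < Nat.card Q) (h4 : Nat.card (Zc 4) = 16)
    {i : ℕ} (hi : i ≤ 4) : Nat.card (Zc i) = 2 ^ i := by
  haveI := hQ.isNilpotent
  have hc : 4 < Group.nilpotencyClass Q := by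
    by_contra h
    push Not at h
    rw [← Subgroup.upperCentralSeries_eq_top_iff_nilpotencyClass_le] at h
    rw [h, card_top] at h4
    omega
  have s : ∀ j, j < 4 → 2 * Nat.card (Zc j) ≤ Nat.card (Zc (j + 1)) := fun j hj =>
    double_le_of_lt hQ (Cfsg.Agent.Lib.LocalP2.ucs_strict_of_lt_class (by omega))
  have h0 : Nat.card (Zc 0) = 1 := by rw [Subgroup.upperCentralSeries_zero, card_bot]
  have := s 0 (by norm_num); have := s 1 (by norm_num); have := s 2 (by norm_num); have := s 3 (by norm_num)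
  simp only [Nat.reduceAdd, zero_add] at *
  interval_cases i <;> omega

/-- A normal subgroup of order at most `2^f` lies in the `f`-th term of the upper central series. -/
theorem normal_le_zc (hQ : IsPGroup 2 Q) :
    ∀ (f : ℕ) (N : Subgroup Q), N.Normal → Nat.card N ≤ 2 ^ f → N ≤ Zc f := by
  haveI := hQ.isNilpotent
  intro f
  induction f with
  | zero =>
    intro N _ h
    rw [pow_zero, card_le_one_iff_eq_bot] at h
    rw [h]; exact bot_le
  | succ f ih =>
    intro N hN h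
    rcases eq_or_ne N ⊥ with rfl | hne
    · exact bot_le
    haveI := hN
    have hlt : ⁅N, (⊤ : Subgroup Q)⁆ < N := lt_of_le_of_ne (commutator_le_left _ _) fun e =>
      hne (Cfsg.Agent.Lib.Transfer.eq_bot_of_le_commutator_top e.ge)
    have h2 := double_le_of_lt hQ hlt
    have h3 := ih _ (inferInstance : (⁅N, (⊤ : Subgroup Q)⁆).Normal) (by rw [pow_succ] at h; omega)
    intro x hx
    exact Subgroup.mem_upperCentralSeries_succ_iff.2 fun y =>
      h3 (commutator_mem_commutator hx (mem_top y))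

theorem exists_not_mem {H K : Subgroup Q} (h : H < K) : ∃ a ∈ K, a ∉ H := by
  obtain ⟨a, ha, ha'⟩ := SetLike.exists_of_lt h
  exact ⟨a, ha, ha'⟩

theorem index_centralizer_zc_le (hQ : IsPGroup 2 Q) (hlarge : 16 < Nat.card Q) (h4 : Nat.card (Zc 4) = 16)
    {i : ℕ} (hi : i < 4) :
    (centralizer ((Zc (i + 1) : Subgroup Q) : Set Q)).index ≤
      (centralizer ((Zc i : Subgroup Q) : Set Q)).index * 2 ^ i := by
  have hc1 := zc_card hQ hlarge h4 hi.le
  have hc2 := zc_card hQ hlarge h4 hi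
  have hlt : Zc i < Zc (i + 1) := lt_of_le_of_ne (Subgroup.upperCentralSeries_mono Q i.le_succ) fun e => by
    rw [e, hc2, pow_succ] at hc1
    have := Nat.two_pow_pos i
    omega
  obtain ⟨a, ha, ha'⟩ := exists_not_mem hlt
  have hgen : Zc (i + 1) = Zc i ⊔ zpowers a := by
    refine (eq_of_le_of_card_ge (sup_le hlt.le (zpowers_le.2 ha)) ?_).symm
    have h := double_le_of_lt hQ (lt_of_le_of_ne (le_sup_left : Zc i ≤ Zc i ⊔ zpowers a) fun e =>
      ha' (e ▸ mem_sup_right (mem_zpowers a)))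
    rw [hc2, pow_succ]
    omega
  have hsub : centralizer ((Zc i : Subgroup Q) : Set Q) ⊓ centralizer ({a} : Set Q) ≤
      centralizer ((Zc (i + 1) : Subgroup Q) : Set Q) := by
    intro x hx
    rw [mem_centralizer_iff]
    intro z hz
    have hle : Zc (i + 1) ≤ centralizer ({x} : Set Q) := by
      rw [hgen]
      refine sup_le (fun y hy => mem_centralizer_singleton_iff.2 (mem_centralizer_iff.1 hx.1 y hy)) ?_
      exact zpowers_le.2 (mem_centralizer_singleton_iff.2 (mem_centralizer_singleton_iff.1 hx.2).symm)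
    exact mem_centralizer_singleton_iff.1 (hle hz)
  have hidx : (centralizer ({a} : Set Q)).index ≤ 2 ^ i := by
    rw [← hc1, index_eq_card]
    refine Nat.card_le_card_of_injective (fun q : Q ⧸ centralizer ({a} : Set Q) =>
      (⟨⁅a, q.out⁆, Subgroup.mem_upperCentralSeries_succ_iff.1 ha _⟩ : ↥(Zc i))) ?_
    intro q q' h
    have h' : a * q.out * a⁻¹ * (q.out)⁻¹ = a * q'.out * a⁻¹ * (q'.out)⁻¹ := congrArg Subtype.val h
    rw [← QuotientGroup.out_eq' q, ← QuotientGroup.out_eq' q', QuotientGroup.eq,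
      mem_centralizer_singleton_iff]
    have h2 : q.out * a⁻¹ * (q.out)⁻¹ = q'.out * a⁻¹ * (q'.out)⁻¹ := by
      simpa [mul_assoc] using h'
    calc (q.out)⁻¹ * q'.out * a = (q.out)⁻¹ * (q'.out * a⁻¹ * (q'.out)⁻¹)⁻¹ * q'.out := by group
      _ = a * ((q.out)⁻¹ * q'.out) := by rw [← h2]; group
  refine le_trans ?_ (Nat.mul_le_mul_left _ hidx)
  exact (Nat.le_of_dvd (Nat.pos_of_ne_zero index_ne_zero_of_finite) (index_dvd_of_le hsub)).trans index_inf_le

theorem index_centralizer_three_le (hQ : IsPGroup 2 Q) (hlarge : 16 < Nat.card Q) (h4 : Nat.card (Zc 4) = 16) :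
    (centralizer ((Zc 3 : Subgroup Q) : Set Q)).index ≤ 8 := by
  have h0 : (centralizer ((Zc 0 : Subgroup Q) : Set Q)).index = 1 := by
    rw [index_eq_one, eq_top_iff']
    intro x
    rw [mem_centralizer_iff]
    intro y hy
    have : y = 1 := by simpa using hy
    simp [this]
  have := index_centralizer_zc_le hQ hlarge h4 (i := 0) (by norm_num)
  have := index_centralizer_zc_le hQ hlarge h4 (i := 1) (by norm_num)
  have := index_centralizer_zc_le hQ hlarge h4 (i := 2) (by norm_num)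
  norm_num at *
  nlinarith

/-! ### Fixed points modulo a small normal subgroup -/

variable (W Φ : Subgroup Q) [Φ.Normal]

/-- The elements of `W` centralized by `H` modulo `Φ`, as a subgroup of `Q ⧸ Φ`. -/
def fixedMod (H : Subgroup Q) : Subgroup (Q ⧸ Φ) :=
  W.map (QuotientGroup.mk' Φ) ⊓ centralizer ((H.map (QuotientGroup.mk' Φ) : Subgroup (Q ⧸ Φ)) : Set (Q ⧸ Φ))

variable {W Φ}

theorem fixedMod_step [W.Normal] (hcomm : ∀ a ∈ W.map (QuotientGroup.mk' Φ), ∀ b ∈ W.map (QuotientGroup.mk' Φ), a * b = b * a)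
    (hsq : ∀ a ∈ W.map (QuotientGroup.mk' Φ), a ^ 2 = 1)
    {K H : Subgroup Q} (hKH : K ≤ H) (hidx : K.relIndex H = 2) :
    Nat.card (fixedMod W Φ K) ≤ Nat.card (fixedMod W Φ H) ^ 2 := by
  obtain ⟨g, hgH, hgK⟩ : ∃ g ∈ H, g ∉ K := exists_not_mem (lt_of_le_of_ne hKH fun e => by
    rw [e, relIndex_self] at hidx; norm_num at hidx)
  have h2 : ∀ a ∈ H, ∀ b ∈ H, (a * b ∈ K ↔ (a ∈ K ↔ b ∈ K)) := fun a ha b hb => by
    have := mul_mem_iff_of_index_two (G := H) (H := K.subgroupOf H) hidx (a := ⟨a, ha⟩) (b := ⟨b, hb⟩)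
    simpa [mem_subgroupOf] using this
  let V := W.map (QuotientGroup.mk' Φ)
  haveI : V.Normal := Normal.map inferInstance _ (QuotientGroup.mk'_surjective _)
  set γ := QuotientGroup.mk' Φ g with hγ
  have hV : ∀ v ∈ V, v⁻¹ = v := fun v hv => inv_eq_of_mul_eq_one_right (by rw [← pow_two]; exact hsq v hv)
  let ψ : ↥(fixedMod W Φ K) →* Q ⧸ Φ :=
    { toFun := fun v => γ * v * γ⁻¹ * v
      map_one' := by simp
      map_mul' := fun v w => by
        have e := hcomm _ ((inferInstance : V.Normal).conj_mem _ w.2.1 γ) _ v.2.1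
        show γ * (v * w : Q ⧸ Φ) * γ⁻¹ * (v * w) = γ * v * γ⁻¹ * v * (γ * w * γ⁻¹ * w)
        calc γ * (v * w : Q ⧸ Φ) * γ⁻¹ * (v * w)
            = γ * v * γ⁻¹ * ((γ * w * γ⁻¹) * v) * w := by group
          _ = γ * v * γ⁻¹ * v * (γ * w * γ⁻¹ * w) := by rw [e]; group }
  have hrange : ψ.range ≤ fixedMod W Φ H := by
    rintro _ ⟨v, rfl⟩
    have hvV : (v : Q ⧸ Φ) ∈ V := v.2.1
    have hgv : γ * v * γ⁻¹ ∈ V := (inferInstance : V.Normal).conj_mem _ hvV γ
    refine ⟨mul_mem hgv hvV, ?_⟩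
    refine mem_centralizer_iff.2 ?_
    rintro _ ⟨h, hh, rfl⟩
    have hK : ∀ k ∈ K, QuotientGroup.mk' Φ k * v = v * QuotientGroup.mk' Φ k := fun k hk =>
      mem_centralizer_iff.1 v.2.2 _ (mem_map_of_mem _ hk)
    have hconjK : ∀ k ∈ K, Commute (QuotientGroup.mk' Φ k) (γ * v * γ⁻¹) := by
      intro k hk
      have h1 : g⁻¹ * k * g ∈ K := by
        rw [mul_assoc, h2 g⁻¹ (inv_mem hgH) (k * g) (mul_mem (hKH hk) hgH), h2 k (hKH hk) g hgH]
        simp [hk, hgK, inv_mem_iff]
      have h3 : Commute (γ⁻¹ * QuotientGroup.mk' Φ k * γ) v := by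
        have := hK _ h1
        rw [map_mul, map_mul, map_inv] at this
        exact this
      have := h3.map (MulAut.conj γ).toMonoidHom
      simpa [mul_assoc] using this
    have hKc : ∀ k ∈ K, Commute (QuotientGroup.mk' Φ k) (γ * v * γ⁻¹ * v) := fun k hk =>
      (hconjK k hk).mul_right (hK k hk)
    have hgc : Commute γ (γ * v * γ⁻¹ * v) := by
      have hg2 : g * g ∈ K := (h2 g hgH g hgH).2 Iff.rfl
      have e := hK _ hg2
      rw [map_mul, ← hγ] at e
      show γ * (γ * v * γ⁻¹ * v) = γ * v * γ⁻¹ * v * γ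
      rw [hcomm _ hgv _ hvV]
      calc γ * (v * (γ * v * γ⁻¹)) = γ * v * γ⁻¹ * (γ * γ * v) * γ⁻¹ := by group
        _ = γ * v * γ⁻¹ * v * γ := by rw [e]; group
      rw [← hcomm _ hgv _ hvV]
    show QuotientGroup.mk' Φ h * _ = _ * QuotientGroup.mk' Φ h
    by_cases hhK : h ∈ K
    · exact (hKc h hhK).eq
    · have hgh : g * h ∈ K := (h2 g hgH h hh).2 (by simp [hgK, hhK])
      have h5 := (hgc.inv_left).mul_left (hKc _ hgh)
      rw [map_mul, ← hγ, inv_mul_cancel_left] at h5
      exact h5.eq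
  have hker : ψ.ker.map (fixedMod W Φ K).subtype ≤ fixedMod W Φ H := by
    rintro _ ⟨v, hv, rfl⟩
    have hv' : γ * v * γ⁻¹ * v = 1 := hv
    have e : Commute γ (v : Q ⧸ Φ) := by
      have h1 := eq_inv_of_mul_eq_one_left hv'
      rw [hV _ v.2.1, mul_inv_eq_iff_eq_mul] at h1
      exact h1
    refine ⟨v.2.1, ?_⟩
    refine mem_centralizer_iff.2 ?_
    rintro _ ⟨h, hh, rfl⟩
    show QuotientGroup.mk' Φ h * (v : Q ⧸ Φ) = (v : Q ⧸ Φ) * QuotientGroup.mk' Φ h
    by_cases hhK : h ∈ K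
    · exact mem_centralizer_iff.1 v.2.2 _ (mem_map_of_mem _ hhK)
    · have hgh : g * h ∈ K := (h2 g hgH h hh).2 (by simp [hgK, hhK])
      have e2 : Commute (QuotientGroup.mk' Φ (g * h)) (v : Q ⧸ Φ) :=
        mem_centralizer_iff.1 v.2.2 _ (mem_map_of_mem _ hgh)
      have h5 := (e.inv_left).mul_left e2
      rw [map_mul, ← hγ, inv_mul_cancel_left] at h5
      exact h5.eq
  have h1 := card_map_of_injective (K := ψ.ker) (fixedMod W Φ K).subtype_injective
  have h3 := card_le_of_le hker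
  have h4 := card_le_of_le hrange
  rw [h1] at h3
  have h5 := ψ.ker.card_mul_index
  rw [index_ker] at h5
  rw [← h5, sq]
  exact Nat.mul_le_mul h3 h4

theorem fixedMod_le_two_pow [W.Normal] (hQ : IsPGroup 2 Q)
    (hcomm : ∀ a ∈ W.map (QuotientGroup.mk' Φ), ∀ b ∈ W.map (QuotientGroup.mk' Φ), a * b = b * a)
    (hsq : ∀ a ∈ W.map (QuotientGroup.mk' Φ), a ^ 2 = 1)
    (htop : Nat.card (fixedMod W Φ ⊤) ≤ 2) :
    ∀ (n : ℕ) (H : Subgroup Q), H.index = n → Nat.card (fixedMod W Φ H) ≤ 2 ^ n := by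
  intro n
  induction n using Nat.strongRecOn with
  | ind n ih =>
    intro H hn
    rcases eq_or_ne H ⊤ with rfl | hne
    · rw [index_top] at hn; rw [← hn, pow_one]; exact htop
    obtain ⟨m, hm⟩ := card_pow hQ H
    obtain ⟨k, hk⟩ := IsPGroup.iff_card.1 hQ
    have hmk : m < k := by
      have h1 : Nat.card H < Nat.card Q := by
        have h2 := H.card_mul_index
        have h3 : 1 < H.index := one_lt_index_of_ne_top hne
        have : 0 < Nat.card H := Nat.card_pos
        nlinarith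
      rw [hm, hk] at h1
      exact (Nat.pow_lt_pow_iff_right (by norm_num)).1 h1
    obtain ⟨L, hL, hHL⟩ := Sylow.exists_subgroup_card_pow_succ (p := 2)
      (show 2 ^ (m + 1) ∣ Nat.card Q from hk ▸ pow_dvd_pow 2 hmk) hm
    have hrel : H.relIndex L = 2 := by
      have := card_mul_index (H.subgroupOf L)
      rw [Nat.card_congr (subgroupOfEquivOfLe hHL).toEquiv, hm, hL, pow_succ] at this
      exact Nat.eq_of_mul_eq_mul_left (Nat.two_pow_pos m) this
    have hidx := relIndex_mul_index hHL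
    rw [hrel, hn] at hidx
    have hpos : 0 < L.index := Nat.pos_of_ne_zero index_ne_zero_of_finite
    refine (fixedMod_step hcomm hsq hHL hrel).trans ?_
    refine (Nat.pow_le_pow_left (ih L.index (by omega) L rfl) 2).trans ?_
    rw [← pow_mul, mul_comm, hidx]

/-- The Frattini subgroup of a subgroup, inside the ambient group. -/
abbrev phiOf (H : Subgroup Q) : Subgroup Q := (frattini ↥H).map H.subtype

omit [Finite Q] in
theorem phiOf_equiv {H K : Type*} [Group H] [Group K] (e : H ≃* K) :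
    (frattini H).map e.toMonoidHom = frattini K := by
  refine le_antisymm ?_ ?_
  · rw [map_le_iff_le_comap]
    exact frattini_le_comap_frattini_of_surjective (φ := e.toMonoidHom) e.surjective
  · intro x hx
    exact ⟨e.symm x, frattini_le_comap_frattini_of_surjective (φ := e.symm.toMonoidHom) e.symm.surjective hx,
      e.apply_symm_apply x⟩

/-- The data used below. -/
theorem setup (hQ : IsPGroup 2 Q) (hlarge : 2 ^ 14 ≤ Nat.card Q)
    (h4 : Nat.card (Zc 4) = 16) (W : Subgroup Q) (hW : W = centralizer ((Zc 3 : Subgroup Q) : Set Q))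
    (hc : Nat.card (phiOf W) ≤ 8) :
    W.Normal ∧ W.index ≤ 8 ∧ (phiOf W).Normal ∧ (∀ x ∈ phiOf W, x ∈ Zc 3) ∧
      2 ^ 8 ≤ (phiOf W).relIndex W := by
  have hlarge' : 16 < Nat.card Q := lt_of_lt_of_le (by norm_num) hlarge
  haveI hWn : W.Normal := hW ▸ Subgroup.normal_centralizer
  haveI : (phiOf W).Normal := ConjAct.normal_of_characteristic_of_normal
  have hidx : W.index ≤ 8 := hW ▸ index_centralizer_three_le hQ hlarge' h4
  refine ⟨hWn, hidx, inferInstance, fun x hx => normal_le_zc hQ 3 (phiOf W) inferInstance hc hx, ?_⟩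
  have h1 := W.card_mul_index
  have h2 := ((phiOf W).subgroupOf W).card_mul_index
  rw [Nat.card_congr (subgroupOfEquivOfLe (map_subtype_le _ : phiOf W ≤ W)).toEquiv] at h2
  change Nat.card (phiOf W) * (phiOf W).relIndex W = Nat.card W at h2
  by_contra h
  push Not at h
  have : Nat.card W * W.index ≤ (8 * (2 ^ 8 - 1)) * 8 := by
    refine Nat.mul_le_mul ?_ hidx
    rw [← h2]
    exact Nat.mul_le_mul hc (by omega)
  omega

theorem image_elementary (hQ : IsPGroup 2 Q) (W : Subgroup Q) [(phiOf W).Normal] :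
    (∀ a ∈ W.map (QuotientGroup.mk' (phiOf W)), ∀ b ∈ W.map (QuotientGroup.mk' (phiOf W)), a * b = b * a) ∧
      ∀ a ∈ W.map (QuotientGroup.mk' (phiOf W)), a ^ 2 = 1 := by
  refine ⟨?_, ?_⟩
  · rintro _ ⟨a, ha, rfl⟩ _ ⟨b, hb, rfl⟩
    rw [← commutatorElement_eq_one_iff_mul_comm, ← map_commutatorElement]
    exact (QuotientGroup.eq_one_iff (N := phiOf W) _).2 (mem_map_of_mem _
      (Cfsg.Agent.Lib.PGroupFrattini.commutator_le_frattini (hQ.to_subgroup W)
        (commutator_mem_commutator (mem_top (⟨a, ha⟩ : ↥W)) (mem_top (⟨b, hb⟩ : ↥W)))))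
  · rintro _ ⟨a, ha, rfl⟩
    rw [← map_pow]
    exact (QuotientGroup.eq_one_iff (N := phiOf W) _).2 (mem_map_of_mem _
      (Cfsg.Agent.Lib.PGroupFrattini.pow_mem_frattini (hQ.to_subgroup W) (⟨a, ha⟩ : ↥W)))

/-- Elements of `W` central modulo the Frattini subgroup lie in the fourth term. -/
theorem central_mod_le (hQ : IsPGroup 2 Q) (W : Subgroup Q) [(phiOf W).Normal]
    (hc : Nat.card (phiOf W) ≤ 8) :
    ∀ v ∈ fixedMod W (phiOf W) ⊤, ∃ x ∈ W, QuotientGroup.mk' (phiOf W) x = v ∧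
      ∀ f, Nat.card (phiOf W) = 2 ^ f → x ∈ Zc (f + 1) := by
  intro v hv
  obtain ⟨x, hx, rfl⟩ := hv.1
  refine ⟨x, hx, rfl, fun f hf => Subgroup.mem_upperCentralSeries_succ_iff.2 fun y => ?_⟩
  apply normal_le_zc hQ f (phiOf W) inferInstance hf.le
  apply (QuotientGroup.eq_one_iff (N := phiOf W) _).1
  show QuotientGroup.mk' (phiOf W) ⁅x, y⁆ = 1
  rw [map_commutatorElement, commutatorElement_eq_one_iff_mul_comm]
  exact (mem_centralizer_iff.1 hv.2 _ (mem_map_of_mem _ (mem_top y))).symm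

theorem fixedMod_top (hQ : IsPGroup 2 Q) (hlarge : 16 < Nat.card Q) (h4 : Nat.card (Zc 4) = 16)
    (W : Subgroup Q) [(phiOf W).Normal] (hc : Nat.card (phiOf W) ≤ 8) :
    Nat.card (fixedMod W (phiOf W) ⊤) ≤ 2 := by
  obtain ⟨f, hf⟩ := card_pow hQ (phiOf W)
  have hf3 : f ≤ 3 := by
    rw [hf, show (8 : ℕ) = 2 ^ 3 from rfl] at hc
    exact (Nat.pow_le_pow_iff_right (by norm_num)).1 hc
  let π := QuotientGroup.mk' (phiOf W)
  have hle : fixedMod W (phiOf W) ⊤ ≤ (Zc (f + 1)).map π := fun v hv => by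
    obtain ⟨x, -, hxv, hxz⟩ := central_mod_le hQ W hc v hv
    exact ⟨x, hxz f hf, hxv⟩
  refine (card_le_of_le hle).trans ?_
  have hsub : phiOf W ≤ Zc (f + 1) :=
    (normal_le_zc hQ f (phiOf W) inferInstance hf.le).trans (Subgroup.upperCentralSeries_mono Q f.le_succ)
  have h := Cfsg.Agent.Lib.Coprime.card_map_mul_card_inf_ker π (Zc (f + 1))
  rw [QuotientGroup.ker_mk', inf_eq_right.2 hsub, zc_card hQ hlarge h4 (by omega), hf, pow_succ'] at h
  exact (Nat.eq_of_mul_eq_mul_right (Nat.two_pow_pos f) h).le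

/-- An automorphism of odd order that only shifts an element by a fixed element fixes it. -/
theorem fix_of_shift (hQ : IsPGroup 2 Q) (α : MulAut Q) {n : ℕ} (hn : Odd n) (hα : α ^ n = 1)
    {y z : Q} (hy : α y = y * z) (hz : α z = z) : α y = y := by
  have hk : ∀ k : ℕ, (α ^ k) y = y * z ^ k := by
    intro k
    induction k with
    | zero => simp
    | succ k ih => rw [pow_succ', MulAut.mul_apply, ih, map_mul, hy, map_pow, hz, mul_assoc, ← pow_succ']
  have h1 := hk n
  rw [hα, MulAut.one_apply, left_eq_mul] at h1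
  obtain ⟨m, hm⟩ := hQ z
  have h2 : orderOf z ∣ Nat.gcd n (2 ^ m) :=
    Nat.dvd_gcd (orderOf_dvd_of_pow_eq_one h1) (orderOf_dvd_of_pow_eq_one hm)
  rw [(Nat.Coprime.pow_right m (Nat.coprime_two_right.2 hn)).gcd_eq_one, Nat.dvd_one, orderOf_eq_one_iff] at h2
  rw [hy, h2, mul_one]

theorem auto_eq_one (hQ : IsPGroup 2 Q) (hlarge : 2 ^ 14 ≤ Nat.card Q)
    (h4 : Nat.card (Zc 4) = 16) (W : Subgroup Q) (hW : W = centralizer ((Zc 3 : Subgroup Q) : Set Q))
    (hc : Nat.card (phiOf W) ≤ 8) (α : MulAut Q) {n : ℕ} (hn : Odd n) (hα : α ^ n = 1) (t : Q) :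
    α t = t := by
  have hlarge' : 16 < Nat.card Q := lt_of_lt_of_le (by norm_num) hlarge
  obtain ⟨hWn, -, hΦn, hΦ3, -⟩ := setup hQ hlarge h4 W hW hc
  have hchar : ∀ i (z : Q), z ∈ Zc i → α z ∈ Zc i := fun i z hz => by
    rw [← Subgroup.comap_upperCentralSeries α i] at hz
    exact hz
  have hZ : ∀ i, i ≤ 4 → ∀ z ∈ Zc i, α z = z := by
    intro i
    induction i with
    | zero =>
      intro _ z hz
      rw [Subgroup.upperCentralSeries_zero, mem_bot] at hz
      simp [hz]
    | succ i ih =>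
      intro hi z hz
      by_cases hzi : z ∈ Zc i
      · exact ih (by omega) z hzi
      have hle : Zc i ≤ Zc (i + 1) := Subgroup.upperCentralSeries_mono Q i.le_succ
      have h2 : ((Zc i).subgroupOf (Zc (i + 1))).index = 2 := by
        have h := card_mul_index ((Zc i).subgroupOf (Zc (i + 1)))
        rw [Nat.card_congr (subgroupOfEquivOfLe hle).toEquiv, zc_card hQ hlarge' h4 (by omega),
          zc_card hQ hlarge' h4 hi, pow_succ] at h
        exact Nat.eq_of_mul_eq_mul_left (Nat.two_pow_pos i) h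
      have hαz : α z ∉ Zc i := fun h => hzi (by
        have := ih (by omega) _ h
        rwa [α.injective this] at h)
      have hmem : z⁻¹ * α z ∈ Zc i := by
        have := (mul_mem_iff_of_index_two h2 (a := (⟨z, hz⟩⁻¹ : ↥(Zc (i + 1))))
          (b := ⟨α z, hchar _ z hz⟩)).2 (by simp [mem_subgroupOf, hzi, hαz])
        simpa [mem_subgroupOf] using this
      exact fix_of_shift hQ α hn hα (z := z⁻¹ * α z) (by group) (ih (by omega) _ hmem)
  have hTW : ∀ s : Q, s⁻¹ * α s ∈ W := by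
    intro s
    rw [hW, mem_centralizer_iff]
    intro z hz
    have h1 : s * z * s⁻¹ ∈ Zc 3 := (inferInstance : (Zc 3).Normal).conj_mem z hz s
    have h2 := hZ 3 (by norm_num) _ h1
    rw [map_mul, map_mul, map_inv, hZ 3 (by norm_num) z hz] at h2
    calc z * (s⁻¹ * α s) = s⁻¹ * (s * z * s⁻¹) * α s := by group
      _ = s⁻¹ * α s * z := by rw [← h2]; group
  have hαW : ∀ v ∈ W, α v ∈ W := fun v hv => by
    simpa using mul_mem hv (hTW v)
  have hαΦ : ∀ x ∈ phiOf W, α x = x := fun x hx => hZ 3 (by norm_num) x (hΦ3 x hx)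
  set π := QuotientGroup.mk' (phiOf W) with hπ
  obtain ⟨hcomm, -⟩ := image_elementary hQ W
  let ψ : ↥W →* Q ⧸ phiOf W :=
    { toFun := fun v => π ((v : Q)⁻¹ * α v)
      map_one' := by simp
      map_mul' := fun a b => by
        have e := hcomm _ (mem_map_of_mem π (inv_mem b.2)) _ (mem_map_of_mem π (hTW (a : Q)))
        have e2 : ((a * b : ↥W) : Q)⁻¹ * α ((a * b : ↥W) : Q)
            = (b : Q)⁻¹ * ((a : Q)⁻¹ * α a) * α b := by
          simp [mul_assoc]
        rw [e2, map_mul π _ (α b), map_mul π (b : Q)⁻¹ _, e, mul_assoc, ← map_mul] }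
  haveI hRn : ψ.range.Normal := by
    refine ⟨?_⟩
    rintro _ ⟨v, rfl⟩ y
    obtain ⟨s, rfl⟩ := QuotientGroup.mk'_surjective (phiOf W) y
    refine ⟨⟨s * v * s⁻¹, hWn.conj_mem _ v.2 s⟩, ?_⟩
    show π ((s * v * s⁻¹)⁻¹ * α (s * v * s⁻¹)) = π s * π ((v : Q)⁻¹ * α v) * (π s)⁻¹
    have e := hcomm _ (mem_map_of_mem π (hαW v v.2)) _ (mem_map_of_mem π (hTW s))
    have e2 : (s * v * s⁻¹)⁻¹ * α (s * v * s⁻¹)
        = s * (v : Q)⁻¹ * (s⁻¹ * α s) * α v * (s⁻¹ * α s)⁻¹ * s⁻¹ := by
      simp [map_mul, map_inv, mul_assoc]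
    rw [e2]
    simp only [map_mul, map_inv] at e ⊢
    rw [mul_assoc (π s * (π (v : Q))⁻¹) _ (π (α v)), ← e]
    group
  have hψ : ψ.range = ⊥ := by
    by_contra hne
    haveI : Nontrivial ↥ψ.range := (nontrivial_iff_ne_bot _).2 hne
    have hQ' : IsPGroup 2 (Q ⧸ phiOf W) := hQ.to_quotient _
    haveI := hQ'.isNilpotent
    obtain ⟨y, hy, hyc, hy1⟩ : ∃ y ∈ ψ.range, y ∈ center (Q ⧸ phiOf W) ∧ y ≠ 1 := by
      by_contra hno
      push Not at hno
      have hlt : ⁅ψ.range, (⊤ : Subgroup (Q ⧸ phiOf W))⁆ < ψ.range :=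
        lt_of_le_of_ne (commutator_le_left _ _) fun e =>
          hne (Cfsg.Agent.Lib.Transfer.eq_bot_of_le_commutator_top e.ge)
      have hbot : ψ.range ⊓ center (Q ⧸ phiOf W) = ⊥ :=
        (eq_bot_iff_forall _).2 fun y hy => hno y hy.1 hy.2
      exact hne (eq_bot_of_inf_center_eq_bot' hQ' _ hbot)
    obtain ⟨v, hv⟩ := hy
    have hyW : y ∈ fixedMod W (phiOf W) ⊤ := by
      refine ⟨hv ▸ mem_map_of_mem π (mul_mem (inv_mem v.2) (hαW v v.2)), ?_⟩
      refine mem_centralizer_iff.2 fun z _ => ?_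
      exact (mem_center_iff.1 hyc z)
    obtain ⟨x, -, hxy, hxz⟩ := central_mod_le hQ W hc y hyW
    obtain ⟨f, hf⟩ := card_pow hQ (phiOf W)
    have hf3 : f + 1 ≤ 4 := by
      rw [hf, show (8 : ℕ) = 2 ^ 3 from rfl] at hc
      have := (Nat.pow_le_pow_iff_right (by norm_num)).1 hc
      omega
    have hxfix : α x = x := hZ _ hf3 x (hxz f hf)
    have hmem : x⁻¹ * ((v : Q)⁻¹ * α v) ∈ phiOf W := QuotientGroup.eq.1 (hxy.trans hv.symm)
    have hzfix : α ((v : Q)⁻¹ * α v) = (v : Q)⁻¹ * α v := by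
      have h5 := hαΦ _ hmem
      rw [map_mul, map_inv, hxfix] at h5
      exact mul_left_cancel h5
    have h6 := fix_of_shift hQ α hn hα (y := (v : Q)) (z := (v : Q)⁻¹ * α v) (by group) hzfix
    apply hy1
    rw [← hv]
    show π ((v : Q)⁻¹ * α v) = 1
    rw [h6, inv_mul_cancel, map_one]
  have hWfix : ∀ v ∈ W, α v = v := by
    intro v hv
    have h1 : π (v⁻¹ * α v) = 1 := by
      have h0 : ψ ⟨v, hv⟩ ∈ ψ.range := ⟨_, rfl⟩
      rw [hψ, mem_bot] at h0
      exact h0
    exact fix_of_shift hQ α hn hα (z := v⁻¹ * α v) (by group)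
      (hαΦ _ ((QuotientGroup.eq_one_iff (N := phiOf W) _).1 h1))
  exact fix_of_shift hQ α hn hα (z := t⁻¹ * α t) (by group) (hWfix _ (hTW t))

theorem weakly_closed_aux (hQ : IsPGroup 2 Q) (hlarge : 2 ^ 14 ≤ Nat.card Q)
    (h4 : Nat.card (Zc 4) = 16) (W : Subgroup Q) (hW : W = centralizer ((Zc 3 : Subgroup Q) : Set Q))
    (hc : Nat.card (phiOf W) ≤ 8) (hd : ∀ U : Subgroup ↥W, U.index ≤ 16 → frattini ↥W ≤ U)
    (W' : Subgroup Q) (e : ↥W ≃* ↥W') : W' = W := by
  obtain ⟨hWn, hidx, hΦn, hΦ3, hbig⟩ := setup hQ hlarge h4 W hW hc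
  obtain ⟨hcomm, hsq⟩ := image_elementary hQ W
  have hcard : Nat.card W' = Nat.card W := (Nat.card_congr e.toEquiv).symm
  by_contra hne
  obtain ⟨x, hxW', hxW⟩ := SetLike.not_le_iff_exists.1
    (fun h : W' ≤ W => hne (eq_of_le_of_card_ge h hcard.ge))
  let U : Subgroup Q := W ⊓ W'
  have hidx' : W'.index = W.index := by
    have h1 := W'.card_mul_index
    have h2 := W.card_mul_index
    rw [hcard] at h1
    exact Nat.eq_of_mul_eq_mul_left Nat.card_pos (h1.trans h2.symm)
  have hUrel : U.relIndex W ≤ 8 := by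
    show (W ⊓ W').relIndex W ≤ 8
    rw [inf_relIndex_left]
    exact le_trans (relIndex_le_index' W' W) (hidx' ▸ hidx)
  -- the two Frattini subgroups agree
  have h1 : phiOf W ≤ phiOf U := by
    rintro _ ⟨w, hw, rfl⟩
    have hwU : (w : Q) ∈ U := by
      have := hd (U.subgroupOf W) (show U.relIndex W ≤ 16 by omega) hw
      exact this
    refine ⟨⟨w, hwU⟩, ?_, rfl⟩
    rw [SetLike.mem_coe]
    simp only [frattini, Order.radical, mem_iInf]
    intro K hK
    have hKidx := (Cfsg.Agent.Lib.PGroupFrattini.coatom_index (p := 2) (hQ.to_subgroup U) hK).2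
    have hle : K.map U.subtype ≤ U := map_subtype_le _
    have h16 : ((K.map U.subtype).subgroupOf W).index ≤ 16 := by
      show (K.map U.subtype).relIndex W ≤ 16
      rw [← relIndex_mul_relIndex _ U W hle inf_le_left]
      have : (K.map U.subtype).relIndex U = 2 := by
        rw [relIndex, subgroupOf, comap_map_eq_self_of_injective U.subtype_injective, hKidx]
      rw [this]
      omega
    obtain ⟨k, hk, hkw⟩ := hd _ h16 hw
    rwa [show (⟨(w : Q), hwU⟩ : ↥U) = k from Subtype.ext hkw.symm]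
  have h2 : phiOf U ≤ phiOf W' := by
    rintro _ ⟨u, hu, rfl⟩
    let f := subgroupOfEquivOfLe (inf_le_right : U ≤ W')
    refine ⟨(f.symm u : ↥W'), ?_, rfl⟩
    refine Cfsg.Agent.Lib.TwoGenSylow.frattini_normal_le (hQ.to_subgroup W') (U.subgroupOf W') ?_
    exact ⟨f.symm u,
      frattini_le_comap_frattini_of_surjective (φ := f.symm.toMonoidHom) f.symm.surjective hu, rfl⟩
  have h3 : phiOf W = phiOf W' := by
    refine eq_of_le_of_card_ge (h1.trans h2) (le_of_eq ?_)
    rw [card_map_of_injective W'.subtype_injective, card_map_of_injective W.subtype_injective,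
      ← phiOf_equiv e, card_map_of_injective (f := e.toMonoidHom) e.injective]
  let π := QuotientGroup.mk' (phiOf W)
  let J : Subgroup Q := W ⊔ zpowers x
  have hfix : U.map π ≤ fixedMod W (phiOf W) J := by
    rintro _ ⟨u, hu, rfl⟩
    refine ⟨mem_map_of_mem π hu.1, ?_⟩
    refine mem_centralizer_iff.2 ?_
    have hJ : J.map π ≤ centralizer ({π u} : Set (Q ⧸ phiOf W)) := by
      rw [Subgroup.map_sup, sup_le_iff]
      refine ⟨fun y hy => mem_centralizer_singleton_iff.2 (hcomm y hy _ (mem_map_of_mem π hu.1)), ?_⟩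
      rw [MonoidHom.map_zpowers, zpowers_le, mem_centralizer_singleton_iff]
      apply commutatorElement_eq_one_iff_mul_comm.1
      rw [← map_commutatorElement]
      refine (QuotientGroup.eq_one_iff (N := phiOf W) _).2 ?_
      rw [h3]
      exact mem_map_of_mem _ (Cfsg.Agent.Lib.PGroupFrattini.commutator_le_frattini (hQ.to_subgroup W')
        (commutator_mem_commutator (mem_top (⟨x, hxW'⟩ : ↥W')) (mem_top (⟨u, hu.2⟩ : ↥W'))))
    intro y hy
    exact mem_centralizer_singleton_iff.1 (hJ hy)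
  have hJidx : J.index ≤ 4 := by
    have hlt : W < J := lt_of_le_of_ne le_sup_left fun e => hxW (e ▸ mem_sup_right (mem_zpowers x))
    have h4' := double_le_of_lt hQ hlt
    have a1 := W.card_mul_index
    have a2 := J.card_mul_index
    have hpos : 0 < Nat.card W := Nat.card_pos
    by_contra h
    push Not at h
    have : Nat.card W * W.index ≤ Nat.card W * 8 := Nat.mul_le_mul_left _ hidx
    nlinarith
  have hbound := fixedMod_le_two_pow hQ hcomm hsq
    (fixedMod_top hQ (lt_of_lt_of_le (by norm_num) hlarge) h4 W hc) _ J rfl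
  have hUcard := card_le_of_le hfix
  have hUeq : Nat.card (U.map π) = (phiOf W).relIndex U := by
    have h := Cfsg.Agent.Lib.Coprime.card_map_mul_card_inf_ker π U
    rw [QuotientGroup.ker_mk', inf_eq_right.2 (h1.trans (map_subtype_le _))] at h
    have h' := card_mul_index ((phiOf W).subgroupOf U)
    rw [Nat.card_congr (subgroupOfEquivOfLe (h1.trans (map_subtype_le _))).toEquiv] at h'
    rw [← h', mul_comm] at h
    exact Nat.eq_of_mul_eq_mul_left Nat.card_pos h
  have hmul := relIndex_mul_relIndex (phiOf W) U W (h1.trans (map_subtype_le _)) inf_le_left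
  have h32 : 32 ≤ (phiOf W).relIndex U := by
    by_contra h
    push Not at h
    have : (phiOf W).relIndex U * U.relIndex W ≤ 31 * 8 := Nat.mul_le_mul (by omega) hUrel
    rw [hmul] at this
    omega
  have : (2 : ℕ) ^ J.index ≤ 2 ^ 4 := Nat.pow_le_pow_right (by norm_num) hJidx
  omega
where
  relIndex_le_index' (H K : Subgroup Q) : H.relIndex K ≤ H.index := by
    rw [← relIndex_top_right]
    exact relIndex_le_of_le_right le_top (by rw [relIndex_top_right]; exact index_ne_zero_of_finite)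

end TwoGroup

end Cfsg.Agent.Lib.RudvalisType

namespace Cfsg.Agent.Lib.RudvalisType

variable {G : Type*} [Group G] [Finite G] (T : Sylow 2 G)

theorem commute_of_odd (hlarge : 2 ^ 14 ≤ Nat.card ↥(T : Subgroup G))
    (h4 : Nat.card (Subgroup.upperCentralSeries ↥(T : Subgroup G) 4) = 16)
    (hc : Nat.card (phiOf (centralizer ((Subgroup.upperCentralSeries ↥(T : Subgroup G) 3 : Subgroup ↥(T : Subgroup G)) : Set ↥(T : Subgroup G)))) ≤ 8)
    {a : G} (ha : a ∈ normalizer ((T : Subgroup G) : Set G)) (hodd : Odd (orderOf a))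
    (t : G) (ht : t ∈ (T : Subgroup G)) : a * t = t * a := by
  have hmem : ∀ s ∈ (T : Subgroup G), a * s * a⁻¹ ∈ (T : Subgroup G) := fun s hs =>
    (mem_normalizer_iff.1 ha s).1 hs
  have hmem' : ∀ s ∈ (T : Subgroup G), a⁻¹ * s * a ∈ (T : Subgroup G) := fun s hs => by
    simpa using (mem_normalizer_iff.1 (inv_mem ha) s).1 hs
  let α : MulAut ↥(T : Subgroup G) :=
    { toFun := fun s => ⟨a * (s : G) * a⁻¹, hmem _ s.2⟩
      invFun := fun s => ⟨a⁻¹ * (s : G) * a, hmem' _ s.2⟩
      left_inv := fun s => Subtype.ext (by simp [mul_assoc])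
      right_inv := fun s => Subtype.ext (by simp [mul_assoc])
      map_mul' := fun s s' => Subtype.ext (by simp [mul_assoc]) }
  have hpow : ∀ (k : ℕ) (s : ↥(T : Subgroup G)), ((α ^ k) s : G) = a ^ k * (s : G) * (a ^ k)⁻¹ := by
    intro k
    induction k with
    | zero => intro s; simp
    | succ k ih =>
      intro s
      rw [pow_succ', MulAut.mul_apply]
      show a * ((α ^ k) s : G) * a⁻¹ = _
      rw [ih, pow_succ']
      group
  have hα : α ^ orderOf a = 1 := by
    ext s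
    rw [hpow, pow_orderOf_eq_one]
    simp
  have h := auto_eq_one T.2 hlarge h4 _ rfl hc α hodd hα ⟨t, ht⟩
  have h' : a * t * a⁻¹ = t := congrArg Subtype.val h
  exact mul_inv_eq_iff_eq_mul.1 h'

theorem normalizer_hasNormalPComplement (hlarge : 2 ^ 14 ≤ Nat.card ↥(T : Subgroup G))
    (h4 : Nat.card (Subgroup.upperCentralSeries ↥(T : Subgroup G) 4) = 16)
    (hc : Nat.card (phiOf (centralizer ((Subgroup.upperCentralSeries ↥(T : Subgroup G) 3 : Subgroup ↥(T : Subgroup G)) : Set ↥(T : Subgroup G)))) ≤ 8) :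
    HasNormalPComplement 2 ↥(normalizer ((T : Subgroup G) : Set G)) := by
  set N := normalizer ((T : Subgroup G) : Set G) with hN
  let P : Sylow 2 N := T.subtype le_normalizer
  haveI hPn : ((P : Subgroup N)).Normal := by
    rw [Sylow.coe_subtype]
    exact normal_subgroupOf_of_le_normalizer (hN.le)
  obtain ⟨K, hK⟩ := exists_left_complement'_of_coprime (N := (P : Subgroup N)) P.card_coprime_index
  have hodd : ∀ k ∈ K, Odd (orderOf ((k : N) : G)) := by
    intro k hk
    rw [Nat.odd_iff, ← Nat.two_dvd_ne_zero, Subgroup.orderOf_coe]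
    intro h
    have h1 := h.trans (Subgroup.orderOf_dvd_natCard K hk)
    rw [← hK.index_eq_card] at h1
    exact P.not_dvd_index h1
  have hcent : ∀ k ∈ K, ∀ t ∈ (P : Subgroup N), k * t = t * k := fun k hk t ht => Subtype.ext (by
    rw [Sylow.coe_subtype, mem_subgroupOf] at ht
    exact commute_of_odd T hlarge h4 hc k.2 (hodd k hk) _ ht)
  refine ⟨P, K, ?_, hK⟩
  refine ⟨fun k hk g => ?_⟩
  obtain ⟨⟨⟨a, haK⟩, ⟨t, htP⟩⟩, rfl⟩ := hK.2 g
  show a * t * k * (a * t)⁻¹ ∈ K
  rw [show a * t * k * (a * t)⁻¹ = a * (t * k * t⁻¹) * a⁻¹ by group, ← hcent k hk t htP,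
    mul_inv_cancel_right]
  exact mul_mem (mul_mem haK hk) (inv_mem haK)

theorem weakly_closed (hlarge : 2 ^ 14 ≤ Nat.card ↥(T : Subgroup G))
    (h4 : Nat.card (Subgroup.upperCentralSeries ↥(T : Subgroup G) 4) = 16)
    (W : Subgroup ↥(T : Subgroup G))
    (hW : W = centralizer ((Subgroup.upperCentralSeries ↥(T : Subgroup G) 3 : Subgroup ↥(T : Subgroup G)) : Set ↥(T : Subgroup G)))
    (hc : Nat.card ↥(frattini ↥W) ≤ 8) (hd : ∀ U : Subgroup ↥W, U.index ≤ 16 → frattini ↥W ≤ U) :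
    IsWeaklyClosed (W.map (T : Subgroup G).subtype) (T : Subgroup G) := by
  have hc' : Nat.card (phiOf W) ≤ 8 := by rwa [card_map_of_injective W.subtype_injective]
  refine ⟨map_subtype_le _, fun g hg => ?_⟩
  set V := (W.map (T : Subgroup G).subtype).map (MulAut.conj g).toMonoidHom with hV
  have e : ↥W ≃* ↥(V.subgroupOf (T : Subgroup G)) :=
    ((equivMapOfInjective W _ (T : Subgroup G).subtype_injective).trans
      (equivMapOfInjective _ _ (MulAut.conj g).injective)).trans (subgroupOfEquivOfLe hg).symm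
  have h := weakly_closed_aux T.2 hlarge h4 W hW hc' hd (V.subgroupOf (T : Subgroup G)) e
  rw [← h, subgroupOf_map_subtype, inf_eq_left.2 hg]

end Cfsg.Agent.Lib.RudvalisType
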