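import Mathlib
import Cfsg.Prelude.Def_Local
import Cfsg.Agent.Lib.Components.Cores
import Cfsg.Agent.Lib.Transfer.Alperin

/-! Subnormalizers of `p`-subgroups and their sizes. -/

set_option autoImplicit false

namespace Cfsg.Agent.Lib.GenStruct.Subnormalizer

open Subgroup

universe u

variable {G : Type u} [Group G] [Finite G] {p : ℕ} [hp : Fact p.Prime]

theorem isSubnormal_of_nilpotent : ∀ (d : ℕ) (N : Type u) [Group N] [Finite N], Group.IsNilpotent N →
    ∀ H : Subgroup N, Nat.card N ≤ Nat.card H + d → H.IsSubnormal := by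
  intro d
  induction d with
  | zero =>
    intro N _ _ _ H h
    have : H = ⊤ := Subgroup.eq_top_of_card_eq H (le_antisymm (Subgroup.card_le_card_group H) (by omega))
    subst this
    exact normal_top.isSubnormal
  | succ d ih =>
    intro N _ _ hN H h
    by_cases htop : H = ⊤
    · subst htop; exact normal_top.isSubnormal
    have hlt : H < normalizer (H : Set N) :=
      (Group.normalizerCondition_of_isNilpotent (h := hN)) H (lt_top_iff_ne_top.2 htop)
    refine IsSubnormal.trans hlt.le (normal_in_normalizer).isSubnormal (ih N hN _ ?_)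
    have := Transfer.card_lt_of_subgroup_lt hlt
    omega

/-- `H` is subnormal in `⟨H, g⟩` iff it lies in a `p`-subgroup normalized by `g`. -/
theorem subnormal_iff {H : Subgroup G} (hH : IsPGroup p H) (g : G) :
    (H.subgroupOf (H ⊔ zpowers g)).IsSubnormal ↔
      ∃ R : Subgroup G, H ≤ R ∧ IsPGroup p R ∧ g ∈ normalizer (R : Set G) := by
  set L := H ⊔ zpowers g with hL
  constructor
  · intro h
    refine ⟨(Cfsg.pCore p L).map L.subtype, ?_, (Components.pCore_isPGroup p).map _, ?_⟩
    · intro x hx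
      refine ⟨⟨x, mem_sup_left hx⟩, Components.le_pCore_of_subnormal h ?_ hx, rfl⟩
      exact hH.comap_subtype
    · have hgL : g ∈ L := mem_sup_right (mem_zpowers g)
      haveI : (Cfsg.pCore p L).Characteristic := by
        refine characteristic_iff_map_le.2 fun φ => ?_
        have hn : ((Cfsg.pCore p L).map φ.toMonoidHom).Normal :=
          (inferInstance : (Cfsg.pCore p L).Normal).map _ φ.surjective
        exact le_sSup ⟨hn, (Components.pCore_isPGroup p).map _⟩
      haveI hn : (Cfsg.pCore p L).Normal := inferInstance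
      rw [mem_normalizer_iff]
      intro x
      constructor
      · rintro ⟨y, hy, rfl⟩
        exact ⟨⟨g, hgL⟩ * y * ⟨g, hgL⟩⁻¹, hn.conj_mem y hy _, rfl⟩
      · rintro ⟨y, hy, he⟩
        refine ⟨⟨g, hgL⟩⁻¹ * y * ⟨g, hgL⟩, by simpa using hn.conj_mem y hy ⟨g, hgL⟩⁻¹, ?_⟩
        show g⁻¹ * (y : G) * g = x
        rw [show (y : G) = g * x * g⁻¹ from he]; group
  · rintro ⟨R, hHR, hR, hg⟩
    set M := R ⊓ L with hM
    haveI hMn : (M.subgroupOf L).Normal := by
      constructor
      intro x hx y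
      have hy : (y : G) ∈ normalizer (R : Set G) :=
        (sup_le (hHR.trans le_normalizer) (zpowers_le.2 hg) : L ≤ _) y.2
      exact ⟨(mem_normalizer_iff.1 hy _).1 hx.1, (y * x * y⁻¹).2⟩
    refine IsSubnormal.trans (K := M.subgroupOf L) (subgroupOf_mono L (le_inf hHR le_sup_left)) ?_ hMn.isSubnormal
    have hnil : Group.IsNilpotent (M.subgroupOf L) :=
      ((hR.to_le inf_le_left).comap_subtype (K := L)).isNilpotent
    exact isSubnormal_of_nilpotent _ _ hnil _ (le_add_left le_rfl)

open scoped Classical in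
/-- Indicator of the subnormalizer of `R` inside `X`. -/
noncomputable def ind (p : ℕ) (X : Subgroup G) (g : G) (R : Subgroup G) : ℤ :=
  if ∃ M : Subgroup G, M ≤ X ∧ IsPGroup p M ∧ R ≤ M ∧ g ∈ normalizer (M : Set G) then 1 else 0

open scoped Classical in
/-- The `p`-subgroups of `X` above `R`, strictly. -/
noncomputable def above (p : ℕ) (X R : Subgroup G) : Finset (Subgroup G) :=
  haveI := Fintype.ofFinite (Subgroup G)
  Finset.univ.filter (fun R' => IsPGroup p R' ∧ R' ≤ X ∧ R < R')

theorem mem_above {X R R' : Subgroup G} :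
    R' ∈ above p X R ↔ IsPGroup p R' ∧ R' ≤ X ∧ R < R' := by
  simp [above]

/-- The inverted indicator. -/
noncomputable def inv (p : ℕ) (X : Subgroup G) (g : G) (R : Subgroup G) : ℤ :=
  ind p X g R - ∑ R' ∈ (above p X R).attach, inv p X g R'.1
termination_by Nat.card G - Nat.card R
decreasing_by
  have h : R < R'.1 := by
    have := R'.2
    simp only [above, Finset.mem_filter] at this
    exact this.2.2.2
  have : Nat.card R < Nat.card R'.1 := Set.ncard_lt_ncard (SetLike.coe_ssubset_coe.mpr h) (Set.toFinite _)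
  have := Subgroup.card_le_card_group R'.1
  omega

theorem inv_eq (X : Subgroup G) (g : G) (R : Subgroup G) :
    inv p X g R + ∑ R' ∈ above p X R, inv p X g R' = ind p X g R := by
  rw [inv, Finset.sum_attach (f := fun R' => inv p X g R')]
  ring

/-- Downward induction on subgroups. -/
theorem down_induction {P : Subgroup G → Prop} (h : ∀ R : Subgroup G, (∀ R' : Subgroup G, R < R' → P R') → P R) :
    ∀ R, P R := by
  intro R
  induction hn : Nat.card G - Nat.card R using Nat.strong_induction_on generalizing R with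
  | _ n ih =>
  refine h R fun R' hlt => ih _ ?_ R' rfl
  have := Transfer.card_lt_of_subgroup_lt hlt
  have := Subgroup.card_le_card_group R'
  omega

open scoped Classical in
theorem sum_above_of_le (X : Subgroup G) (g : G) {M : Subgroup G} (hM : IsPGroup p M) (hMX : M ≤ X) :
    ∑ R' ∈ insert M (above p X M), inv p X g R' = ind p X g M := by
  classical
  rw [Finset.sum_insert (fun h => lt_irrefl M (mem_above.1 h).2.2)]
  exact inv_eq X g M

/-- Off the normalizer the inverted indicator vanishes. -/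
theorem inv_eq_zero (X : Subgroup G) (g : G) : ∀ R : Subgroup G, g ∉ normalizer (R : Set G) → inv p X g R = 0 := by
  classical
  refine down_induction fun R ih hg => ?_
  have h0 := inv_eq (p := p) X g R
  by_cases hex : ∃ M : Subgroup G, M ≤ X ∧ IsPGroup p M ∧ R ≤ M ∧ g ∈ normalizer (M : Set G)
  swap
  · rw [ind, if_neg hex, Finset.sum_eq_zero (fun R' hR' => ?_), add_zero] at h0
    · exact h0
    · obtain ⟨h1, h2, h3⟩ := mem_above.1 hR'
      exact ih R' h3 fun hn => hex ⟨R', h2, h1, h3.le, hn⟩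
  · obtain ⟨M1, hM1X, hM1p, hM1R, hM1g⟩ := hex
    set M0 := sInf {M : Subgroup G | M ≤ X ∧ IsPGroup p M ∧ R ≤ M ∧ g ∈ normalizer (M : Set G)} with hM0
    have hmem : M1 ∈ {M : Subgroup G | M ≤ X ∧ IsPGroup p M ∧ R ≤ M ∧ g ∈ normalizer (M : Set G)} :=
      ⟨hM1X, hM1p, hM1R, hM1g⟩
    have hM0g : g ∈ normalizer (M0 : Set G) := by
      rw [mem_normalizer_iff]
      intro x
      simp only [hM0, Subgroup.mem_sInf]
      refine forall_congr' fun M => forall_congr' fun hM => ?_
      exact mem_normalizer_iff.1 hM.2.2.2 x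
    have hRM0 : R ≤ M0 := le_sInf fun M hM => hM.2.2.1
    have hM01 : M0 ≤ M1 := sInf_le hmem
    have hne : R ≠ M0 := fun h => hg (h ▸ hM0g)
    have hsub : insert M0 (above p X M0) ⊆ above p X R := by
      intro R' hR'
      rcases Finset.mem_insert.1 hR' with rfl | h
      · exact mem_above.2 ⟨hM1p.to_le hM01, hM01.trans hM1X, lt_of_le_of_ne hRM0 hne⟩
      · obtain ⟨h1, h2, h3⟩ := mem_above.1 h
        exact mem_above.2 ⟨h1, h2, lt_of_le_of_lt hRM0 h3⟩
    have hrest : ∀ R' ∈ above p X R, R' ∉ insert M0 (above p X M0) → inv p X g R' = 0 := by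
      intro R' hR' hno
      obtain ⟨h1, h2, h3⟩ := mem_above.1 hR'
      refine ih R' h3 fun hn => hno ?_
      have hle : M0 ≤ R' := sInf_le ⟨h2, h1, h3.le, hn⟩
      rcases eq_or_lt_of_le hle with h | h
      · exact Finset.mem_insert.2 (Or.inl h.symm)
      · exact Finset.mem_insert.2 (Or.inr (mem_above.2 ⟨h1, h2, h⟩))
    have hone : ind p X g R = 1 := if_pos ⟨M1, hM1X, hM1p, hM1R, hM1g⟩
    have hone' : ind p X g M0 = 1 := if_pos ⟨M0, hM01.trans hM1X, hM1p.to_le hM01, le_rfl, hM0g⟩
    rw [← Finset.sum_subset hsub hrest, sum_above_of_le X g (hM1p.to_le hM01) (hM01.trans hM1X), hone,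
      hone'] at h0
    omega

open scoped Classical in
/-- The fibre of `R' ↦ R' ⊓ N` over `S`. -/
noncomputable def fib (p : ℕ) (X N S : Subgroup G) : Finset (Subgroup G) :=
  haveI := Fintype.ofFinite (Subgroup G)
  Finset.univ.filter (fun R' => IsPGroup p R' ∧ R' ≤ X ∧ R' ⊓ N = S)

/-- Inverted indicators restrict along `R' ↦ R' ⊓ N`. -/
theorem sum_fib (X : Subgroup G) {g : G} {R : Subgroup G} (hg : g ∈ normalizer (R : Set G)) (hgX : g ∈ X) :
    ∀ S : Subgroup G, IsPGroup p S → S ≤ X ⊓ normalizer (R : Set G) → R ≤ S →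
      ∑ R' ∈ fib p X (X ⊓ normalizer (R : Set G)) S, inv p X g R' =
        inv p (X ⊓ normalizer (R : Set G)) g S := by
  classical
  haveI := Fintype.ofFinite (Subgroup G)
  set N := X ⊓ normalizer (R : Set G) with hN
  refine down_induction fun S ih hS hSN hRS => ?_
  have hgN : g ∈ N := ⟨hgX, hg⟩
  -- both sides sum to the indicator
  have hind : ind p X g S = ind p N g S := by
    have hiff : (∃ M : Subgroup G, M ≤ X ∧ IsPGroup p M ∧ S ≤ M ∧ g ∈ normalizer (M : Set G)) ↔
        ∃ M : Subgroup G, M ≤ N ∧ IsPGroup p M ∧ S ≤ M ∧ g ∈ normalizer (M : Set G) := by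
      refine ⟨?_, ?_⟩
      · rintro ⟨M, h1, h2, h3, h4⟩
        refine ⟨M ⊓ N, inf_le_right, h2.to_le inf_le_left, le_inf h3 hSN, ?_⟩
        rw [mem_normalizer_iff]
        intro x
        exact and_congr (mem_normalizer_iff.1 h4 x) (mem_normalizer_iff.1 (le_normalizer hgN) x)
      · rintro ⟨M, h1, h2, h3, h4⟩
        exact ⟨M, h1.trans inf_le_left, h2, h3, h4⟩
    unfold ind
    split_ifs with hA hB hB
    · rfl
    · exact absurd (hiff.1 hA) hB
    · exact absurd (hiff.2 hB) hA
    · rfl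
  have hL := sum_above_of_le (p := p) X g hS (hSN.trans inf_le_left)
  have hR' := sum_above_of_le (p := p) N g hS hSN
  have hpart : ∑ R' ∈ insert S (above p X S), inv p X g R' =
      ∑ T ∈ insert S (above p N S), ∑ R' ∈ fib p X N T, inv p X g R' := by
    rw [← Finset.sum_biUnion]
    · congr 1
      ext R'
      simp only [Finset.mem_insert, Finset.mem_biUnion, fib, Finset.mem_filter, Finset.mem_univ, true_and,
        mem_above]
      constructor
      · intro h
        have h' : IsPGroup p R' ∧ R' ≤ X ∧ S ≤ R' := by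
          rcases h with rfl | ⟨h1, h2, h3⟩
          · exact ⟨hS, hSN.trans inf_le_left, le_rfl⟩
          · exact ⟨h1, h2, h3.le⟩
        refine ⟨R' ⊓ N, ?_, h'.1, h'.2.1, rfl⟩
        rcases eq_or_lt_of_le (le_inf h'.2.2 hSN) with he | hlt
        · exact Or.inl he.symm
        · exact Or.inr ⟨h'.1.to_le inf_le_left, inf_le_right, hlt⟩
      · rintro ⟨T, hT, h1, h2, rfl⟩
        have hle : S ≤ R' := by
          rcases hT with he | ⟨-, -, hlt⟩
          · exact he.ge.trans inf_le_left
          · exact hlt.le.trans inf_le_left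
        rcases eq_or_lt_of_le hle with he | hlt
        · exact Or.inl he.symm
        · exact Or.inr ⟨h1, h2, hlt⟩
    · intro a _ b _ hab
      rw [Function.onFun, Finset.disjoint_left]
      intro R' h1 h2
      simp only [fib, Finset.mem_filter, Finset.mem_univ, true_and] at h1 h2
      exact hab (h1.2.2.symm.trans h2.2.2)
  rw [hpart, Finset.sum_insert (fun h => lt_irrefl S (mem_above.1 h).2.2), hind, ← hR',
    Finset.sum_insert (fun h => lt_irrefl S (mem_above.1 h).2.2)] at hL
  rw [Finset.sum_congr rfl (fun T hT => ih T (mem_above.1 hT).2.2 (mem_above.1 hT).1 (mem_above.1 hT).2.1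
    (hRS.trans (mem_above.1 hT).2.2.le))] at hL
  exact add_right_cancel hL

theorem inv_restrict (X : Subgroup G) {g : G} {R : Subgroup G} (hR : IsPGroup p R) (hRX : R ≤ X)
    (hg : g ∈ normalizer (R : Set G)) (hgX : g ∈ X) :
    inv p X g R = inv p (X ⊓ normalizer (R : Set G)) g R := by
  classical
  haveI := Fintype.ofFinite (Subgroup G)
  rw [← sum_fib X hg hgX R hR (le_inf hRX le_normalizer) le_rfl]
  rw [show fib p X (X ⊓ normalizer (R : Set G)) R = {R} from ?_, Finset.sum_singleton]
  ext R'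
  simp only [fib, Finset.mem_filter, Finset.mem_univ, true_and, Finset.mem_singleton]
  constructor
  · rintro ⟨h1, h2, h3⟩
    by_contra hne
    have hlt : R < R' := lt_of_le_of_ne (h3 ▸ inf_le_left) (Ne.symm hne)
    have := Transfer.lt_inf_normalizer h1 hlt
    exact this.ne' (le_antisymm (le_of_le_of_eq (le_inf inf_le_left (le_inf (inf_le_left.trans h2) inf_le_right)) h3) this.le)
  · rintro rfl
    exact ⟨hR, hRX, inf_eq_left.2 (le_inf hRX le_normalizer)⟩

open scoped Classical in
/-- Sylow subgroups of `X` containing `R`. -/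
noncomputable def sylsOf (p : ℕ) (X R : Subgroup G) : Finset (Subgroup G) :=
  haveI := Fintype.ofFinite (Subgroup G)
  Finset.univ.filter (fun Q => IsPGroup p Q ∧ Q ≤ X ∧ R ≤ Q ∧ ¬ p ∣ Q.relIndex X)

theorem mem_sylsOf {X R Q : Subgroup G} :
    Q ∈ sylsOf p X R ↔ IsPGroup p Q ∧ Q ≤ X ∧ R ≤ Q ∧ ¬ p ∣ Q.relIndex X := by
  simp [sylsOf]

theorem exists_sylsOf {X R : Subgroup G} (hR : IsPGroup p R) (hRX : R ≤ X) :
    ∃ Q, Q ∈ sylsOf p X R := by
  obtain ⟨T, hT⟩ := (hR.comap_subtype (K := X)).exists_le_sylow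
  refine ⟨(T : Subgroup X).map X.subtype, mem_sylsOf.2 ⟨T.isPGroup'.map _, map_subtype_le _,
    fun x hx => ⟨⟨x, hRX hx⟩, hT hx, rfl⟩, ?_⟩⟩
  rw [relIndex, subgroupOf, comap_map_eq_self_of_injective X.subtype_injective]
  exact T.not_dvd_index

theorem card_sylow_mul_normalizer (X : Type u) [Group X] [Finite X] (T : Sylow p X) :
    Nat.card (Sylow p X) * Nat.card (normalizer ((T : Subgroup X) : Set X)) = Nat.card X := by
  rw [T.card_eq_index_normalizer, mul_comm]
  exact Subgroup.card_mul_index _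

/-- The Sylow subgroups of `X` above a normal `p`-subgroup. -/
theorem sum_sylsOf_of_normal {X R : Subgroup G} (hR : IsPGroup p R) (hRX : R ≤ X)
    (hn : X ≤ normalizer (R : Set G)) :
    ∑ Q ∈ sylsOf p X R, Nat.card ((X ⊓ normalizer (Q : Set G) : Subgroup G)) = Nat.card X := by
  classical
  haveI := Fintype.ofFinite (Subgroup G)
  obtain ⟨T0⟩ : Nonempty (Sylow p X) := inferInstance
  have hRn : (R.subgroupOf X).Normal := by
    constructor
    intro x hx y
    exact (mem_normalizer_iff.1 (hn y.2) x).1 hx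
  let e : Sylow p X ≃ {Q // Q ∈ sylsOf p X R} :=
    { toFun := fun T => ⟨(T : Subgroup X).map X.subtype, mem_sylsOf.2 ⟨T.isPGroup'.map _, map_subtype_le _,
        fun x hx => ⟨⟨x, hRX hx⟩, (by
          obtain ⟨S, hS⟩ := (hR.comap_subtype (K := X)).exists_le_sylow
          obtain ⟨c, hc⟩ := MulAction.exists_smul_eq X S T
          rw [← hc]
          refine Transfer.mem_smul_sylow.2 (hS ?_)
          have := hRn.conj_mem ⟨x, hRX hx⟩ hx c⁻¹
          rw [inv_inv] at this
          exact this), rfl⟩, by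
        rw [relIndex, subgroupOf, comap_map_eq_self_of_injective X.subtype_injective]
        exact T.not_dvd_index⟩⟩
      invFun := fun Q => ((mem_sylsOf.1 Q.2).1.comap_subtype (K := X)).toSylow (mem_sylsOf.1 Q.2).2.2.2
      left_inv := fun T => Sylow.ext (comap_map_eq_self_of_injective X.subtype_injective _)
      right_inv := fun Q => Subtype.ext (map_subgroupOf_eq_of_le (mem_sylsOf.1 Q.2).2.1) }
  rw [← Finset.sum_coe_sort]
  haveI := Fintype.ofFinite (Sylow p X)
  rw [← e.sum_comp, ← card_sylow_mul_normalizer X T0, Nat.card_eq_fintype_card (α := Sylow p X), ← smul_eq_mul,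
    ← Finset.card_univ, ← Finset.sum_const]
  refine Finset.sum_congr rfl fun T _ => ?_
  have h1 : Nat.card (normalizer ((T : Subgroup X) : Set X)) = Nat.card (normalizer ((T0 : Subgroup X) : Set X)) := by
    have := (card_sylow_mul_normalizer X T).trans (card_sylow_mul_normalizer X T0).symm
    exact Nat.eq_of_mul_eq_mul_left Nat.card_pos this
  rw [← h1, ← card_map_of_injective X.subtype_injective]
  refine congrArg (fun S : Subgroup G => Nat.card S) ?_
  show X ⊓ normalizer (((T : Subgroup X).map X.subtype : Subgroup G) : Set G) = _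
  ext x
  constructor
  · rintro ⟨hx, hxn⟩
    refine ⟨⟨x, hx⟩, ?_, rfl⟩
    show (⟨x, hx⟩ : X) ∈ normalizer ((T : Subgroup X) : Set X)
    rw [mem_normalizer_iff]
    intro y
    have := mem_normalizer_iff.1 hxn (y : G)
    constructor
    · intro hy
      obtain ⟨z, hz, he⟩ := this.1 ⟨y, hy, rfl⟩
      rwa [show (⟨x, hx⟩ : X) * y * (⟨x, hx⟩ : X)⁻¹ = z from Subtype.ext he.symm]
    · intro hy
      obtain ⟨z, hz, he⟩ := this.2 ⟨_, hy, rfl⟩
      rwa [show y = z from Subtype.ext he.symm]
  · rintro ⟨y, hy, rfl⟩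
    refine ⟨y.2, ?_⟩
    show (y : G) ∈ normalizer (((T : Subgroup X).map X.subtype : Subgroup G) : Set G)
    rw [mem_normalizer_iff]
    intro z
    constructor
    · rintro ⟨w, hw, rfl⟩
      exact ⟨y * w * y⁻¹, (mem_normalizer_iff.1 hy w).1 hw, rfl⟩
    · rintro ⟨w, hw, he⟩
      refine ⟨y⁻¹ * w * y, (mem_normalizer_iff''.1 hy w).1 hw, ?_⟩
      show (y : G)⁻¹ * (w : G) * (y : G) = z
      rw [show (w : G) = (y : G) * z * (y : G)⁻¹ from he]; group

open scoped Classical in
/-- The aggregated inverted indicator is supported on Sylow subgroups. -/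
theorem total_eq : ∀ R X : Subgroup G, IsPGroup p R → R ≤ X →
    ∑ᶠ g : X, inv p X (g : G) R =
      if ¬ p ∣ R.relIndex X then (Nat.card ((X ⊓ normalizer (R : Set G) : Subgroup G)) : ℤ) else 0 := by
  haveI := Fintype.ofFinite (Subgroup G)
  refine down_induction fun R ih X hR hRX => ?_
  set N := X ⊓ normalizer (R : Set G) with hN
  have hRN : R ≤ N := le_inf hRX le_normalizer
  haveI := Fintype.ofFinite X
  haveI := Fintype.ofFinite N
  rw [finsum_eq_sum_of_fintype]
  have h1 : ∑ g : X, inv p X (g : G) R = ∑ g : N, inv p N (g : G) R := by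
    rw [← Finset.sum_filter_of_ne (p := fun g : X => (g : G) ∈ normalizer (R : Set G))
      (fun g _ hne => by_contra fun hg => hne (inv_eq_zero X g R hg))]
    refine Finset.sum_bij' (fun g hg => (⟨(g : G), g.2, (Finset.mem_filter.1 hg).2⟩ : N))
      (fun g _ => (⟨(g : G), g.2.1⟩ : X)) (fun g _ => Finset.mem_univ _)
      (fun g _ => Finset.mem_filter.2 ⟨Finset.mem_univ _, g.2.2⟩) (fun g _ => rfl) (fun g _ => rfl) ?_
    intro g hg
    exact inv_restrict X hR hRX (Finset.mem_filter.1 hg).2 g.2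
  have h2 : ∑ g : N, inv p N (g : G) R + ∑ R' ∈ above p N R, ∑ g : N, inv p N (g : G) R' =
      (Nat.card N : ℤ) := by
    rw [Finset.sum_comm, ← Finset.sum_add_distrib]
    rw [Finset.sum_congr rfl (g := fun _ => (1 : ℤ))]
    · rw [Finset.sum_const, Finset.card_univ, Nat.card_eq_fintype_card, nsmul_one]
    · intro g _
      rw [inv_eq]
      exact if_pos ⟨R, hRN, hR, le_rfl, g.2.2⟩
  have h3 : ∑ R' ∈ above p N R, ∑ g : N, inv p N (g : G) R' =
      ∑ R' ∈ (above p N R).filter (fun R' => ¬ p ∣ R'.relIndex N),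
        (Nat.card ((N ⊓ normalizer (R' : Set G) : Subgroup G)) : ℤ) := by
    rw [Finset.sum_filter]
    refine Finset.sum_congr rfl fun R' hR' => ?_
    obtain ⟨a, b, c⟩ := mem_above.1 hR'
    have := ih R' c N a b
    rw [finsum_eq_sum_of_fintype] at this
    exact this
  by_cases hsyl : ¬ p ∣ R.relIndex X
  · rw [if_pos hsyl, h1]
    have hempty : above p N R = ∅ := by
      refine Finset.eq_empty_of_forall_notMem fun R' hR' => ?_
      obtain ⟨a, b, c⟩ := mem_above.1 hR'
      refine hsyl ?_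
      have hXR' : R' ≤ X := b.trans inf_le_left
      rw [← relIndex_mul_relIndex R R' X c.le hXR']
      refine Dvd.dvd.mul_right ?_ _
      obtain ⟨j, hj⟩ := IsPGroup.iff_card.1 a
      obtain ⟨m, -, hm⟩ := (Nat.dvd_prime_pow hp.out).1 (hj ▸ (relIndex_dvd_card R R'))
      rw [hm]
      refine dvd_pow_self p fun h0 => c.not_ge ?_
      rw [← relIndex_eq_one, hm, h0, pow_zero]
    rw [hempty, Finset.sum_empty, add_zero] at h2
    exact h2
  · rw [if_neg hsyl, h1]
    rw [not_not] at hsyl
    have hfilt : (above p N R).filter (fun R' => ¬ p ∣ R'.relIndex N) = sylsOf p N R := by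
      ext Q
      rw [Finset.mem_filter, mem_above, mem_sylsOf]
      constructor
      · rintro ⟨⟨a, b, c⟩, d⟩; exact ⟨a, b, c.le, d⟩
      · rintro ⟨a, b, c, d⟩
        refine ⟨⟨a, b, lt_of_le_of_ne c ?_⟩, d⟩
        rintro rfl
        -- `R` would be Sylow in `X`
        obtain ⟨T, hT⟩ := exists_sylsOf (X := X) hR hRX
        obtain ⟨t1, t2, t3, t4⟩ := mem_sylsOf.1 hT
        have hlt : R < T := lt_of_le_of_ne t3 fun h => t4 (h ▸ hsyl)
        have hlt' := Transfer.lt_inf_normalizer t1 hlt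
        apply d
        rw [← relIndex_mul_relIndex R (T ⊓ normalizer (R : Set G)) N hlt'.le (inf_le_inf t2 le_rfl)]
        refine Dvd.dvd.mul_right ?_ _
        obtain ⟨j, hj⟩ := IsPGroup.iff_card.1 (t1.to_le (inf_le_left : T ⊓ normalizer (R : Set G) ≤ T))
        obtain ⟨m, -, hm⟩ := (Nat.dvd_prime_pow hp.out).1 (hj ▸ (relIndex_dvd_card R (T ⊓ normalizer (R : Set G))))
        rw [hm]
        refine dvd_pow_self p fun h0 => hlt'.not_ge ?_
        rw [← relIndex_eq_one, hm, h0, pow_zero]
    rw [h3, hfilt, ← Nat.cast_sum, sum_sylsOf_of_normal hR hRN inf_le_right] at h2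
    omega

/-- Sylow subgroups above `H` as a finite set. -/
noncomputable def sylsOfTopEquiv (H : Subgroup G) :
    {Q : Sylow p G // H ≤ (Q : Subgroup G)} ≃ {Q // Q ∈ sylsOf p ⊤ H} :=
  { toFun := fun Q => ⟨(Q.1 : Subgroup G), mem_sylsOf.2 ⟨Q.1.isPGroup', le_top, Q.2, by
        rw [relIndex_top_right]; exact Q.1.not_dvd_index⟩⟩
    invFun := fun Q => ⟨(mem_sylsOf.1 Q.2).1.toSylow (by
        have := (mem_sylsOf.1 Q.2).2.2.2; rwa [relIndex_top_right] at this), (mem_sylsOf.1 Q.2).2.2.1⟩
    left_inv := fun Q => Subtype.ext (Sylow.ext rfl)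
    right_inv := fun Q => Subtype.ext rfl }

/-- The number of elements of the subnormalizer. -/
theorem card_subnormalizer {H : Subgroup G} (hH : IsPGroup p H) (P : Sylow p G) :
    Nat.card {g : G // (H.subgroupOf (H ⊔ zpowers g)).IsSubnormal} =
      Nat.card {Q : Sylow p G // H ≤ (Q : Subgroup G)} * Nat.card (normalizer ((P : Subgroup G) : Set G)) := by
  classical
  haveI := Fintype.ofFinite G
  haveI := Fintype.ofFinite (Subgroup G)
  haveI := Fintype.ofFinite (⊤ : Subgroup G)
  have hind : ∀ g : G, ind p ⊤ g H = if (H.subgroupOf (H ⊔ zpowers g)).IsSubnormal then 1 else 0 := by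
    intro g
    have hiff : (∃ M : Subgroup G, M ≤ ⊤ ∧ IsPGroup p M ∧ H ≤ M ∧ g ∈ normalizer (M : Set G)) ↔
        (H.subgroupOf (H ⊔ zpowers g)).IsSubnormal := by
      rw [subnormal_iff hH g]
      exact ⟨fun ⟨M, _, a, b, c⟩ => ⟨M, b, a, c⟩, fun ⟨M, b, a, c⟩ => ⟨M, le_top, a, b, c⟩⟩
    unfold ind
    split_ifs with hA hB hB
    · rfl
    · exact absurd (hiff.1 hA) hB
    · exact absurd (hiff.2 hB) hA
    · rfl
  have h0 : (Nat.card {g : G // (H.subgroupOf (H ⊔ zpowers g)).IsSubnormal} : ℤ) = ∑ g : G, ind p ⊤ g H := by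
    rw [Finset.sum_congr rfl fun g _ => hind g, Finset.sum_boole, Nat.card_eq_fintype_card, Fintype.card_subtype]
  have h1 : ∑ g : G, ind p ⊤ g H =
      ∑ R ∈ insert H (above p ⊤ H), ∑ g : G, inv p ⊤ g R := by
    rw [Finset.sum_comm]
    exact Finset.sum_congr rfl fun g _ => (sum_above_of_le ⊤ g hH le_top).symm
  have h2 : ∀ R ∈ insert H (above p ⊤ H), ∑ g : G, inv p ⊤ g R =
      if ¬ p ∣ R.relIndex ⊤ then (Nat.card (normalizer (R : Set G)) : ℤ) else 0 := by
    intro R hR
    have hRp : IsPGroup p R := by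
      rcases Finset.mem_insert.1 hR with rfl | h
      · exact hH
      · exact (mem_above.1 h).1
    have := total_eq R ⊤ hRp le_top
    rw [finsum_eq_sum_of_fintype, top_inf_eq] at this
    rw [← this]
    exact (Fintype.sum_equiv Subgroup.topEquiv.toEquiv _ _ (fun x => rfl)).symm
  have h3 : (insert H (above p ⊤ H)).filter (fun R : Subgroup G => ¬ p ∣ R.relIndex ⊤) = sylsOf p ⊤ H := by
    ext Q
    rw [Finset.mem_filter, Finset.mem_insert, mem_above, mem_sylsOf]
    constructor
    · rintro ⟨rfl | ⟨a, b, c⟩, d⟩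
      · exact ⟨hH, le_top, le_rfl, d⟩
      · exact ⟨a, b, c.le, d⟩
    · rintro ⟨a, b, c, d⟩
      rcases eq_or_lt_of_le c with h | h
      · exact ⟨Or.inl h.symm, d⟩
      · exact ⟨Or.inr ⟨a, b, h⟩, d⟩
  let e := sylsOfTopEquiv (p := p) H
  have h4 : ∑ Q ∈ sylsOf p ⊤ H, (Nat.card (normalizer (Q : Set G)) : ℤ) =
      (Nat.card {Q : Sylow p G // H ≤ (Q : Subgroup G)} * Nat.card (normalizer ((P : Subgroup G) : Set G)) : ℕ) := by
    haveI := Fintype.ofFinite {Q : Sylow p G // H ≤ (Q : Subgroup G)}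
    rw [← Finset.sum_coe_sort, ← e.sum_comp, Nat.card_eq_fintype_card (α := {Q : Sylow p G // H ≤ (Q : Subgroup G)}),
      ← smul_eq_mul, ← Finset.card_univ, ← Finset.sum_const, Nat.cast_sum]
    refine Finset.sum_congr rfl fun Q _ => ?_
    have := (card_sylow_mul_normalizer G Q.1).trans (card_sylow_mul_normalizer G P).symm
    exact congrArg _ (Nat.eq_of_mul_eq_mul_left Nat.card_pos this)
  rw [h1, Finset.sum_congr rfl h2, ← Finset.sum_filter, h3, h4] at h0
  exact_mod_cast h0

/-- Double counting Sylow subgroups and conjugates. -/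
theorem card_sylow_above_eq {H : Subgroup G} (P : Sylow p G) :
    Nat.card {Q : Sylow p G // H ≤ (Q : Subgroup G)} * Nat.card (normalizer ((P : Subgroup G) : Set G)) =
      Nat.card {K : Subgroup G // K ≤ (P : Subgroup G) ∧ ∃ g : G, K = H.map (MulAut.conj g).toMonoidHom} *
        Nat.card (normalizer (H : Set G)) := by
  -- both count `{g | conj g H ≤ P}`
  classical
  haveI := Fintype.ofFinite G
  let S := {g : G // H.map (MulAut.conj g).toMonoidHom ≤ (P : Subgroup G)}
  have hmem : ∀ (g h : G), g * h * g⁻¹ ∈ (P : Subgroup G) ↔ h ∈ ((g⁻¹ • P : Sylow p G) : Subgroup G) := by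
    intro g h
    rw [Transfer.mem_smul_sylow, inv_inv]
  let f : S → {Q : Sylow p G // H ≤ (Q : Subgroup G)} := fun g => ⟨g.1⁻¹ • P, fun h hh =>
    (hmem g.1 h).1 (g.2 ⟨h, hh, rfl⟩)⟩
  let k : S → {K : Subgroup G // K ≤ (P : Subgroup G) ∧ ∃ g : G, K = H.map (MulAut.conj g).toMonoidHom} :=
    fun g => ⟨_, g.2, g.1, rfl⟩
  have hf : ∀ Q, Nat.card {g : S // f g = Q} = Nat.card (normalizer ((P : Subgroup G) : Set G)) := by
    intro Q
    obtain ⟨c, hc⟩ := MulAction.exists_smul_eq G P Q.1
    refine Nat.card_congr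
      { toFun := fun g => ⟨g.1.1 * c, ?_⟩
        invFun := fun n => ⟨⟨n.1 * c⁻¹, ?_⟩, ?_⟩
        left_inv := fun g => Subtype.ext (Subtype.ext (by simp))
        right_inv := fun n => Subtype.ext (by simp) }
    · have h1 : g.1.1⁻¹ • P = Q.1 := congrArg Subtype.val g.2
      refine Sylow.smul_eq_iff_mem_normalizer.1 ?_
      rw [mul_smul, hc, ← h1, smul_inv_smul]
    · rintro _ ⟨h, hh, rfl⟩
      show n.1 * c⁻¹ * h * (n.1 * c⁻¹)⁻¹ ∈ (P : Subgroup G)
      rw [hmem]
      rw [mul_inv_rev, inv_inv, mul_smul, Sylow.smul_eq_iff_mem_normalizer.2 (inv_mem n.2), hc]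
      exact Q.2 hh
    · apply Subtype.ext
      show (n.1 * c⁻¹)⁻¹ • P = Q.1
      rw [mul_inv_rev, inv_inv, mul_smul, Sylow.smul_eq_iff_mem_normalizer.2 (inv_mem n.2), hc]
  have hk : ∀ K, Nat.card {g : S // k g = K} = Nat.card (normalizer (H : Set G)) := by
    intro K
    obtain ⟨hKP, c, hc⟩ := K.2
    refine Nat.card_congr
      { toFun := fun g => ⟨c⁻¹ * g.1.1, ?_⟩
        invFun := fun n => ⟨⟨c * n.1, ?_⟩, ?_⟩
        left_inv := fun g => Subtype.ext (Subtype.ext (by simp))
        right_inv := fun n => Subtype.ext (by simp) }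
    · have h1 : H.map (MulAut.conj g.1.1).toMonoidHom = K.1 := congrArg Subtype.val g.2
      rw [mem_normalizer_iff_map_conj_eq]
      refine Eq.trans ?_ ((congrArg (Subgroup.map (MulAut.conj c⁻¹).toMonoidHom) (h1.trans hc)).trans ?_)
      · rw [Subgroup.map_map]; congr 1; ext x; simp [mul_assoc]
      · rw [Subgroup.map_map]
        refine (congrArg (fun φ => H.map φ) ?_).trans (Subgroup.map_id H)
        ext x; simp [mul_assoc]
    · have h1 := mem_normalizer_iff_map_conj_eq.1 n.2
      have h2 : H.map (MulAut.conj (c * n.1)).toMonoidHom = K.1 := by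
        rw [hc]
        conv_rhs => rw [← h1, Subgroup.map_map]
        congr 1; ext x; simp [mul_assoc]
      rw [h2]; exact hKP
    · apply Subtype.ext
      show H.map (MulAut.conj (c * n.1)).toMonoidHom = K.1
      have h1 := mem_normalizer_iff_map_conj_eq.1 n.2
      rw [hc]
      conv_rhs => rw [← h1, Subgroup.map_map]
      congr 1; ext x; simp [mul_assoc]
  haveI := Fintype.ofFinite {Q : Sylow p G // H ≤ (Q : Subgroup G)}
  haveI := Fintype.ofFinite {K : Subgroup G // K ≤ (P : Subgroup G) ∧ ∃ g : G, K = H.map (MulAut.conj g).toMonoidHom}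
  have e1 : Nat.card S = Nat.card {Q : Sylow p G // H ≤ (Q : Subgroup G)} * Nat.card (normalizer ((P : Subgroup G) : Set G)) := by
    rw [← Nat.card_congr (Equiv.sigmaFiberEquiv f), Nat.card_sigma, Finset.sum_congr rfl fun Q _ => hf Q,
      Finset.sum_const, Finset.card_univ, smul_eq_mul, Nat.card_eq_fintype_card (α := {Q : Sylow p G // H ≤ (Q : Subgroup G)})]
  have e2 : Nat.card S = Nat.card {K : Subgroup G // K ≤ (P : Subgroup G) ∧ ∃ g : G, K = H.map (MulAut.conj g).toMonoidHom} * Nat.card (normalizer (H : Set G)) := by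
    rw [← Nat.card_congr (Equiv.sigmaFiberEquiv k), Nat.card_sigma, Finset.sum_congr rfl fun K _ => hk K,
      Finset.sum_const, Finset.card_univ, smul_eq_mul,
      Nat.card_eq_fintype_card (α := {K : Subgroup G // K ≤ (P : Subgroup G) ∧ ∃ g : G, K = H.map (MulAut.conj g).toMonoidHom})]
  exact e1.symm.trans e2

end Cfsg.Agent.Lib.GenStruct.Subnormalizer
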